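import Cfsg.Agent.H191.A12Cover
import Cfsg.Agent.H191.AltElts
import Cfsg.Agent.H191.CubicBound_mg
import Cfsg.Agent.H190.E6.LemQ
import Cfsg.Agent.H190.E6.Cub
set_option linter.all false

/-!
# The alternating group of degree 12 is not a section of `E₆(q)` in characteristic at least 5
-/

set_option autoImplicit false

namespace Cfsg.Agent.H191.A12E6

open Cfsg.Lie Module Cfsg.Agent.H191.AltTab Cfsg.Agent.H191.MinCover Cfsg.Agent.H191.A12Cover
open Cfsg.Agent.H191.CubicBound Cfsg.Agent.H190.E6
open Cfsg.Agent.ChevalleyStructure.E6Form.Cubic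
open Cfsg.Agent.ChevalleyStructure.E6Ad (Gam Z quot_equiv)

universe u

section

variable {k : Type u} [Field k]

/-- the operator of a matrix -/
noncomputable def op : GL I27 k →* (Module.End k (I27 → k))ˣ :=
  Units.map (Matrix.toLinAlgEquiv' : Matrix I27 I27 k ≃ₐ[k] Module.End k (I27 → k)).toMulEquiv.toMonoidHom

theorem coe_op (g : GL I27 k) : ((op g : (Module.End k (I27 → k))ˣ) : Module.End k (I27 → k)) = lin g := rfl

theorem op_injective : Function.Injective (op (k := k)) :=
  Units.map_injective (Matrix.toLinAlgEquiv' : Matrix I27 I27 k ≃ₐ[k] Module.End k (I27 → k)).injective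

theorem op_inv {g : GL I27 k} (hg : g ∈ E6univ k) : Inv (triL k) (op g) := by
  intro v x y
  rw [triL_apply, triL_apply, coe_op, lin_apply, lin_apply, lin_apply]
  exact tri_mulVec hg v x y

theorem cubic : Cubic (triL k) where
  dim := by
    rw [Module.finrank_fintype_fun_eq_card]
    decide +kernel
  rank := fun _ hv => rank_ge hv

variable [IsAlgClosed k] {p : ℕ} [Fact p.Prime] [CharP k p]

theorem contra (hp5 : 5 ≤ p) {G : Type*} [Group G] [Finite G] (φ : G →* A12) (hφ : Function.Surjective φ)
    (f : G →* GL I27 k) (hf : Function.Injective f) (hE : ∀ g, f g ∈ E6univ k) : False := by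
  obtain ⟨S, M⟩ := exists_minCov φ hφ
  let ψ : S →* A12 := φ.comp S.subtype
  let w : S →* GL I27 k := f.comp S.subtype
  have hw : Function.Injective w := hf.comp S.subtype_injective
  let v : S →* (Module.End k (I27 → k))ˣ := op.comp w
  have hv : Function.Injective v := op_injective.comp hw
  have h2 : ((2 : ℕ) : k) ≠ 0 := by exact_mod_cast AltT.two_ne (p := p) hp5
  have h3 : ((3 : ℕ) : k) ≠ 0 := by exact_mod_cast AltT.three_ne (p := p) hp5
  have key : ∀ (l : ℕ), (l = 2 ∨ l = 3) → (l : k) ≠ 0 → ∀ P : Sylow l ψ.ker, Fact l.Prime →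
      SS ψ P ≤ Subgroup.center S := by
    intro l hl hlk P hlp
    apply SS_central M P
    intro s hs x hx
    apply hv
    have hN := SS_normal M P
    have hfin : Finite ↥((SS ψ P).map v) := ((Set.toFinite (SS ψ P : Set S)).image v).to_subtype
    have h4 := lemQ cubic hl hlk ((SS ψ P).map v) ((SS_isPGroup P).map v) (by
      rintro _ ⟨y, hy, rfl⟩
      exact op_inv (hE _)) (s := v s) (by
      obtain ⟨a, ha⟩ := hs
      exact ⟨a, by rw [← map_pow, ha, map_one]⟩) (by
      rintro _ ⟨y, hy, rfl⟩
      exact ⟨s * y * s⁻¹, hN.conj_mem y hy s, by rw [map_mul, map_mul, map_inv]⟩) (v x) ⟨x, hx, rfl⟩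
    rw [map_mul, map_mul, map_inv]
    exact h4
  obtain ⟨Q, Z, C⟩ := exists_cov M (fun P => key 2 (Or.inl rfl) h2 P ⟨by norm_num⟩)
    (fun P => key 3 (Or.inr rfl) h3 P ⟨by norm_num⟩)
  let ρ : Representation k S (I27 → k) := (Units.coeHom _).comp v
  obtain ⟨x, hx3, hx1, hx⟩ := exists_small C (k := k) (p := p) hp5 ρ cubic.dim.le
  apply hx1
  apply hw
  rw [map_one]
  refine bound_odd (hE _) (m := 3) h3 (by decide) (by rw [← map_pow, hx3, map_one]) ?_
  rw [cubic.dim] at hx
  have h4 : finrank k (End.eigenspace (ρ x) 1) = finrank k (End.eigenspace (lin (w x)) 1) := rfl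
  omega

end

section

variable {F : Type u} [Field F] {K : Type*} [Field K] (σ : F →+* K)

theorem N_map (r : ℕ) : (Cfsg.Agent.ChevalleyStructure.E6AdMat.N F r).map σ =
    Cfsg.Agent.ChevalleyStructure.E6AdMat.N K r := by
  ext a b
  rw [Matrix.map_apply]
  unfold Cfsg.Agent.ChevalleyStructure.E6AdMat.N Cfsg.Agent.ChevalleyStructure.E6AdMat.dec
  rw [Matrix.of_apply, Matrix.of_apply]
  split
  · split
    · exact map_one σ
    · rw [map_neg, map_one]
  · exact map_zero σ

theorem Z_map (r : Fin 72) (t : F) : Matrix.GeneralLinearGroup.map σ (Z r t) = Z r (σ t) := by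
  apply Units.ext
  show ((1 : Matrix I27 I27 F) + t • Cfsg.Agent.ChevalleyStructure.E6AdMat.N F r.val).map σ =
    1 + σ t • Cfsg.Agent.ChevalleyStructure.E6AdMat.N K r.val
  rw [Matrix.map_add _ (map_add σ), Matrix.map_one _ (map_zero σ) (map_one σ), ← N_map σ]
  congr 1
  ext a b
  rw [Matrix.map_apply, Matrix.smul_apply, Matrix.smul_apply, Matrix.map_apply, smul_eq_mul, map_mul, smul_eq_mul]

theorem map_Gam {g : GL I27 F} (hg : g ∈ Gam F) : Matrix.GeneralLinearGroup.map σ g ∈ E6univ K := by
  refine Cfsg.Agent.ChevalleyStructure.E6AdCubic.Gam_le ?_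
  have h : Gam F ≤ (Gam K).comap (Matrix.GeneralLinearGroup.map σ) := by
    unfold Gam
    rw [Subgroup.closure_le]
    rintro _ ⟨r, t, rfl⟩
    show Matrix.GeneralLinearGroup.map σ (Z r t) ∈ Subgroup.closure _
    rw [Z_map]
    exact Subgroup.subset_closure ⟨r, σ t, rfl⟩
  exact h hg

end

/-- no subgroup of `E₆(q)` maps onto `A_12` in characteristic at least 5 -/
theorem no_hom {F : Type u} [Field F] [Finite F] {p : ℕ} [Fact p.Prime] [CharP F p] (hp5 : 5 ≤ p)
    (G : Subgroup ↥(chevE6.group F)) (φ : G →* A12) (hφ : Function.Surjective φ) : False := by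
  obtain ⟨e⟩ := quot_equiv F
  let π : Gam F →* ↥(chevE6.group F) := e.toMonoidHom.comp (QuotientGroup.mk' _)
  have hπ : Function.Surjective π := e.surjective.comp (QuotientGroup.mk'_surjective _)
  let f : GL I27 F →* GL I27 (AlgebraicClosure F) := Matrix.GeneralLinearGroup.map (algebraMap F (AlgebraicClosure F))
  have hf : Function.Injective f := by
    intro x y h
    apply Units.ext
    have h1 := congrArg (fun z : GL I27 (AlgebraicClosure F) => (z : Matrix I27 I27 (AlgebraicClosure F))) h
    exact Matrix.map_injective (algebraMap F (AlgebraicClosure F)).injective h1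
  have : CharP (AlgebraicClosure F) p := charP_of_injective_algebraMap (algebraMap F (AlgebraicClosure F)).injective p
  have : Finite (GL I27 F) := inferInstance
  exact contra (k := AlgebraicClosure F) (p := p) hp5 (G := G.comap π) (φ.comp (π.subgroupComap G))
    (hφ.comp (MonoidHom.subgroupComap_surjective_of_surjective π G hπ))
    (f.comp ((Gam F).subtype.comp (G.comap π).subtype))
    (hf.comp ((Gam F).subtype_injective.comp (G.comap π).subtype_injective))
    (fun g => map_Gam _ (g : Gam F).2)

/-- a section `A_r` with `n ≤ r` gives a subgroup mapping onto `A_n` -/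
theorem exists_hom {X : Type*} [Group X] {n r : ℕ} (hnr : n ≤ r) (H : Subgroup X) (K : Subgroup ↥H) [K.Normal]
    (h : Nonempty (↥H ⧸ K ≃* ↥(alternatingGroup (Fin r)))) :
    ∃ (G : Subgroup X) (φ : G →* alternatingGroup (Fin n)), Function.Surjective φ := by
  obtain ⟨e⟩ := h
  let ψ : H →* alternatingGroup (Fin r) := e.toMonoidHom.comp (QuotientGroup.mk' K)
  have hψ : Function.Surjective ψ := e.surjective.comp (QuotientGroup.mk'_surjective K)
  let j := AltElts.embAlt hnr
  let G0 : Subgroup H := j.range.comap ψ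
  let e1 := (MonoidHom.ofInjective (AltElts.embAlt_injective hnr)).symm
  let e2 := (G0.equivMapOfInjective H.subtype H.subtype_injective).symm
  refine ⟨G0.map H.subtype, (e1.toMonoidHom.comp (ψ.subgroupComap j.range)).comp e2.toMonoidHom, ?_⟩
  exact (e1.surjective.comp (MonoidHom.subgroupComap_surjective_of_surjective ψ j.range hψ)).comp e2.surjective

/-- **alternating sections of `E₆(q)` in characteristic at least 5 have degree at most 11** -/
theorem section_le {F : Type u} [Field F] [Finite F] {p : ℕ} [Fact p.Prime] [CharP F p] (hp5 : 5 ≤ p) {r : ℕ}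
    (H : Subgroup ↥(chevE6.group F)) (K : Subgroup ↥H) [K.Normal]
    (h : Nonempty (↥H ⧸ K ≃* ↥(alternatingGroup (Fin r)))) : r ≤ 11 := by
  by_contra hr
  obtain ⟨G, φ, hφ⟩ := exists_hom (n := 12) (by omega) H K h
  exact no_hom (p := p) hp5 G φ hφ

end Cfsg.Agent.H191.A12E6
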