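import Mathlib
set_option linter.all false

/-!
# Eigenvectors of coprime automorphisms of abelian Sylow subgroups, in sections

`exists_conj_pow`: let `A` be an abelian subgroup of the finite group `G` with `p ∤ |G : A|`. If a quotient of a subgroup
of `G` contains an element `a` of order `p` and an element `b` with `b a b⁻¹ = a ^ k`, then some `x ∈ A` of order `p` is
conjugate in `G` to `x ^ k`.
-/

set_option autoImplicit false

namespace Cfsg.Agent.H191.CoprimeEigen

/-- Abstract eigenvector lemma: `β` is an endomorphism of the finite abelian `p`-group `M` with `β ^ n = 1`, `p ∤ n`, acting as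
`k`-th power on the image of `f`, which contains an element of order `p`. Then some `x` of order `p` has
`β x = x ^ k`. -/
theorem eigen {M C : Type*} [CommGroup M] [Finite M] [CommGroup C] {p : ℕ} [Fact p.Prime] (hM : IsPGroup p M)
    (β : M →* M) {n : ℕ} (hn : ∀ x, β^[n] x = x) (hpn : ¬ p ∣ n) (f : M →* C) {k : ℕ}
    (hf : ∀ x, f (β x) = f x ^ k) {u : M} (hu : orderOf (f u) = p) :
    ∃ x : M, orderOf x = p ∧ β x = x ^ k := by
  have hp : p.Prime := Fact.out
  obtain ⟨t, ht⟩ := IsPGroup.iff_card.1 hM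
  -- every element is killed by `p ^ t`
  have hexp : ∀ x : M, x ^ (p ^ t) = 1 := fun x => by rw [← ht]; exact pow_card_eq_one'
  have hiter : ∀ (i : ℕ) (x : M), f (β^[i] x) = f x ^ (k ^ i) := by
    intro i
    induction i with
    | zero => intro x; simp
    | succ i ih => intro x; rw [Function.iterate_succ_apply, ih, hf, ← pow_mul, pow_succ']
  -- `k ^ n ≡ 1 mod p`
  have hkn : k ^ n ≡ 1 [MOD p] := by
    have h1 := hiter n u
    rw [hn] at h1
    have h2 : f u ^ (k ^ n) = f u ^ 1 := by rw [← h1, pow_one]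
    have h3 := pow_eq_pow_iff_modEq.1 h2
    rwa [hu] at h3
  set κ : ℕ := k ^ (p ^ t) with hκ
  have hκk : κ ≡ k [MOD p] := by
    have : ((k ^ (p ^ t) : ℕ) : ZMod p) = (k : ZMod p) := by
      push_cast
      exact ZMod.pow_card_pow _
    exact (ZMod.natCast_eq_natCast_iff _ _ _).1 this
  have hκn : κ ^ n ≡ 1 [MOD p ^ t] := by
    have e : κ ^ n = (k ^ n) ^ (p ^ t) := by rw [hκ, ← pow_mul, ← pow_mul, mul_comm]
    rw [e]
    have h1 : ((p : ℕ) : ℤ) ∣ ((k ^ n : ℕ) : ℤ) - 1 := by
      have := (Int.natCast_modEq_iff.2 hkn).symm.dvd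
      simpa using this
    have h2 := dvd_sub_pow_of_dvd_sub h1 t
    have h3 : ((p ^ t : ℕ) : ℤ) ∣ (((k ^ n) ^ (p ^ t) : ℕ) : ℤ) - ((1 : ℕ) : ℤ) := by
      push_cast at h2 ⊢
      rw [one_pow] at h2
      exact dvd_trans (pow_dvd_pow _ (Nat.le_succ t)) h2
    exact (Int.natCast_modEq_iff.1 (Int.modEq_iff_dvd.2 h3)).symm
  have hn0 : n ≠ 0 := by rintro rfl; exact hpn (dvd_zero p)
  -- the eigenvector
  set v : M := ∏ i ∈ Finset.range n, (β^[i] u) ^ (κ ^ (n - i)) with hv
  have hpow : ∀ (x : M) (a b : ℕ), a ≡ b [MOD p ^ t] → x ^ a = x ^ b := by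
    intro x a b hab
    exact pow_eq_pow_iff_modEq.2 (hab.of_dvd (orderOf_dvd_of_pow_eq_one (hexp x)))
  have hβv : β v = v ^ κ := by
    have e1 : β v = ∏ i ∈ Finset.range n, (β^[i + 1] u) ^ (κ ^ (n - i)) := by
      rw [hv, map_prod]
      refine Finset.prod_congr rfl fun i _ => ?_
      rw [map_pow, Function.iterate_succ_apply']
    have e2 : v ^ κ = ∏ i ∈ Finset.range n, (β^[i] u) ^ (κ ^ (n - i + 1)) := by
      rw [hv, ← Finset.prod_pow]
      refine Finset.prod_congr rfl fun i _ => ?_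
      rw [← pow_mul, pow_succ]
    rw [e1, e2]
    -- shift by one
    obtain ⟨m, rfl⟩ : ∃ m, n = m + 1 := ⟨n - 1, by omega⟩
    rw [Finset.prod_range_succ, Finset.prod_range_succ' (fun i => (β^[i] u) ^ (κ ^ (m + 1 - i + 1)))]
    congr 1
    · refine Finset.prod_congr rfl fun i hi => ?_
      have hi' := Finset.mem_range.1 hi
      rw [show m + 1 - (i + 1) + 1 = m + 1 - i by omega]
    · rw [hn, show m + 1 - m = 1 by omega, pow_one]
      show u ^ κ = (β^[0] u) ^ (κ ^ (m + 1 - 0 + 1))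
      rw [Function.iterate_zero_apply, Nat.sub_zero]
      apply hpow
      have := (hκn.mul_right κ)
      rw [one_mul, ← pow_succ] at this
      exact this.symm
  have hpu : ∀ (a b : ℕ), a ≡ b [MOD p] → f u ^ a = f u ^ b := by
    intro a b hab
    exact pow_eq_pow_iff_modEq.2 (by rw [hu]; exact hab)
  have hfv : f v = f u ^ n := by
    have e3 : f v = ∏ i ∈ Finset.range n, f u := by
      rw [hv, map_prod]
      refine Finset.prod_congr rfl fun i hi => ?_
      have hi' := Finset.mem_range.1 hi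
      rw [map_pow, hiter, ← pow_mul]
      conv_rhs => rw [← pow_one (f u)]
      apply hpu
      calc k ^ i * κ ^ (n - i) ≡ k ^ i * k ^ (n - i) [MOD p] := (hκk.pow _).mul_left _
        _ = k ^ n := by rw [← pow_add]; congr 1; omega
        _ ≡ 1 [MOD p] := hkn
    rw [e3, Finset.prod_const, Finset.card_range]
  have hfv1 : f v ≠ 1 := by
    rw [hfv]
    intro h
    exact hpn (hu ▸ orderOf_dvd_of_pow_eq_one h)
  have hv1 : v ≠ 1 := by
    rintro h
    exact hfv1 (by rw [h, map_one])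
  obtain ⟨j, hj⟩ := IsPGroup.iff_orderOf.1 hM v
  have hj0 : j ≠ 0 := by
    rintro rfl
    rw [pow_zero] at hj
    exact hv1 (orderOf_eq_one_iff.1 hj)
  obtain ⟨j, rfl⟩ := Nat.exists_eq_succ_of_ne_zero hj0
  have hox : orderOf (v ^ (p ^ j)) = p := by
    rw [orderOf_pow' v (pow_ne_zero _ hp.ne_zero), hj, Nat.gcd_eq_right (pow_dvd_pow p (Nat.le_succ j)),
      Nat.succ_eq_add_one, pow_succ, Nat.mul_div_cancel_left _ (pow_pos hp.pos _)]
  refine ⟨v ^ (p ^ j), hox, ?_⟩
  rw [map_pow, hβv, ← pow_mul, mul_comm, pow_mul]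
  exact pow_eq_pow_iff_modEq.2 (by rw [hox]; exact hκk)

open Subgroup in
/-- Sylow subgroups surject: a `p`-element in the image of a subgroup lies in the image of a Sylow subgroup. -/
theorem exists_sylow_map {H Q : Type*} [Group H] [Finite H] [Group Q] {p : ℕ} [Fact p.Prime] (f : H →* Q) (A : Subgroup H)
    (P : Sylow p A) {a : Q} (ha : orderOf a = p) (hA : A.map f = zpowers a) :
    ∃ x : A, x ∈ P ∧ orderOf (f x) = p := by
  have hp : p.Prime := Fact.out
  -- the image of `P` has index in `⟨a⟩` prime to `p`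
  set g : A →* Q := f.comp A.subtype with hg
  have hrange : g.range = zpowers a := by
    rw [hg, MonoidHom.range_comp, A.range_subtype, hA]
  have hsurj : Function.Surjective g.rangeRestrict := g.rangeRestrict_surjective
  have hidx : (P.toSubgroup.map g.rangeRestrict).index ∣ P.toSubgroup.index := index_map_dvd _ hsurj
  have hcard : Nat.card g.range = p := by rw [hrange, Nat.card_zpowers, ha]
  have hne : P.toSubgroup.map g.rangeRestrict ≠ ⊥ := by
    intro h
    rw [h, index_bot, hcard] at hidx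
    exact P.not_dvd_index hidx
  obtain ⟨⟨y, hy⟩, hy1⟩ := Subgroup.ne_bot_iff_exists_ne_one.1 hne
  obtain ⟨x, hx, rfl⟩ := Subgroup.mem_map.1 hy
  refine ⟨x, hx, ?_⟩
  have h1 : f x ∈ zpowers a := by rw [← hrange]; exact ⟨x, rfl⟩
  have h2 : f x ≠ 1 := fun h => hy1 (Subtype.ext (Subtype.ext h))
  have h3 : orderOf (f x) ∣ p := by
    rw [← ha, ← Nat.card_zpowers, ← Nat.card_zpowers a]
    exact Subgroup.card_dvd_of_le (by rwa [zpowers_le])
  rcases (Nat.dvd_prime hp).1 h3 with h | h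
  · exact absurd (orderOf_eq_one_iff.1 h) h2
  · exact h

open Subgroup in
/-- Frattini step: an element normalising `A` can be corrected by an element of `A` so that it normalises a given Sylow
subgroup `P` of `A`. -/
theorem exists_normalizing {H : Type*} [Group H] [Finite H] {p : ℕ} [Fact p.Prime] (A : Subgroup H) (P : Sylow p A)
    (b : H) (hb : ∀ x ∈ A, b * x * b⁻¹ ∈ A) :
    ∃ u : A, ∀ x : A, x ∈ P → ∃ y : A, y ∈ P ∧ (y : H) = (u * b) * x * (u * b)⁻¹ := by
  -- conjugation by `b` is an automorphism of `A`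
  let β : A →* A :=
    { toFun := fun x => ⟨b * x * b⁻¹, hb x x.2⟩
      map_one' := Subtype.ext (by simp)
      map_mul' := fun x y => Subtype.ext (by simp) }
  have hβ : Function.Injective β := by
    intro x y h
    have h1 := congrArg Subtype.val h
    have h2 : b * (x : H) * b⁻¹ = b * (y : H) * b⁻¹ := h1
    exact Subtype.ext (by simpa using h2)
  have hcard : Nat.card (P.toSubgroup.map β) = Nat.card P := by
    exact Nat.card_congr (P.toSubgroup.equivMapOfInjective β hβ).symm.toEquiv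
  have hcard' : Nat.card (P.toSubgroup.map β) = p ^ (Nat.card A).factorization p := by
    rw [hcard, P.card_eq_multiplicity]
  let P' : Sylow p A := Sylow.ofCard (P.toSubgroup.map β) hcard'
  obtain ⟨u, hu⟩ := MulAction.exists_smul_eq A P' P
  refine ⟨u, fun x hx => ?_⟩
  have h1 : β x ∈ P' := Subgroup.mem_map_of_mem β hx
  have h2 : u * β x * u⁻¹ ∈ P := by
    rw [← hu]
    have := Subgroup.smul_mem_pointwise_smul (β x) (MulAut.conj u) (P' : Subgroup A) h1
    rw [MulAut.smul_def, MulAut.conj_apply] at this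
    exact this
  refine ⟨u * β x * u⁻¹, h2, ?_⟩
  show (u : H) * (b * x * b⁻¹) * (u : H)⁻¹ = _
  group

open Subgroup in
/-- If all `p`-subgroups of the finite group `H` are abelian and a homomorphic image of `H` has an element `a` of order `p`
with `b a b⁻¹ = a ^ k`, then some `x` in `H` of order `p` is conjugate to `x ^ k`. -/
theorem exists_conj_pow_aux {H Q : Type*} [Group H] [Finite H] [Group Q] {p : ℕ} [Fact p.Prime] (f : H →* Q)
    (hcomm : ∀ P : Subgroup H, IsPGroup p P → ∀ x ∈ P, ∀ y ∈ P, x * y = y * x) {a b : Q} (ha : orderOf a = p)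
    (ha' : a ∈ f.range) (hb' : b ∈ f.range) {k : ℕ} (hab : b * a * b⁻¹ = a ^ k) :
    ∃ x g : H, orderOf x = p ∧ g * x * g⁻¹ = x ^ k := by
  have hp : p.Prime := Fact.out
  obtain ⟨b0, rfl⟩ := hb'
  set A : Subgroup H := (zpowers a).comap f with hA
  have hAmap : A.map f = zpowers a := by
    rw [hA, Subgroup.map_comap_eq, inf_eq_right, zpowers_le]
    exact ha'
  have hbz : ∀ z ∈ zpowers a, f b0 * z * (f b0)⁻¹ = z ^ k := by
    rintro _ ⟨i, rfl⟩
    show f b0 * a ^ i * (f b0)⁻¹ = (a ^ i) ^ k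
    rw [← conj_zpow, hab, ← zpow_natCast, ← zpow_mul, ← zpow_natCast, ← zpow_mul, mul_comm]
  have hb0 : ∀ x ∈ A, b0 * x * b0⁻¹ ∈ A := by
    intro x hx
    rw [hA, mem_comap] at hx ⊢
    rw [map_mul, map_mul, map_inv, hbz _ hx]
    exact pow_mem hx k
  obtain ⟨P⟩ : Nonempty (Sylow p A) := inferInstance
  obtain ⟨u, hu⟩ := exists_normalizing A P b0 hb0
  set g0 : H := u * b0 with hg0
  have hg0z : ∀ z ∈ zpowers a, f g0 * z * (f g0)⁻¹ = z ^ k := by
    intro z hz
    have h1 : f u ∈ zpowers a := u.2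
    rw [hg0, map_mul, mul_inv_rev]
    calc f u * f b0 * z * ((f b0)⁻¹ * (f u)⁻¹) = f u * (f b0 * z * (f b0)⁻¹) * (f u)⁻¹ := by group
      _ = f u * z ^ k * (f u)⁻¹ := by rw [hbz z hz]
      _ = z ^ k := by
        obtain ⟨i, hi⟩ := h1
        obtain ⟨j, hj⟩ := hz
        have hi' : a ^ i = f u := hi
        have hj' : a ^ j = z := hj
        rw [← hi', ← hj']
        have : Commute (a ^ i) ((a ^ j) ^ k) := ((Commute.refl a).zpow_zpow i j).pow_right k
        rw [this.eq, mul_inv_cancel_right]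
  -- the `p'`-part
  set s : ℕ := (orderOf g0).factorization p with hs
  set g : H := g0 ^ (p ^ s) with hg
  have hog : ¬ p ∣ orderOf g := by
    have h0 : orderOf g0 ≠ 0 := (orderOf_pos g0).ne'
    rw [hg, orderOf_pow' _ (pow_ne_zero _ hp.ne_zero), Nat.gcd_eq_right (Nat.ordProj_dvd _ _)]
    exact Nat.not_dvd_ordCompl hp h0
  have hiter : ∀ (i : ℕ) (z : Q), z ∈ zpowers a → f (g0 ^ i) * z * (f (g0 ^ i))⁻¹ = z ^ (k ^ i) := by
    intro i
    induction i with
    | zero => intro z _; simp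
    | succ i ih =>
      intro z hz
      rw [pow_succ, map_mul, mul_inv_rev]
      calc f (g0 ^ i) * f g0 * z * ((f g0)⁻¹ * (f (g0 ^ i))⁻¹)
          = f (g0 ^ i) * (f g0 * z * (f g0)⁻¹) * (f (g0 ^ i))⁻¹ := by group
        _ = f (g0 ^ i) * z ^ k * (f (g0 ^ i))⁻¹ := by rw [hg0z z hz]
        _ = (z ^ k) ^ (k ^ i) := ih _ (pow_mem hz k)
        _ = z ^ (k ^ (i + 1)) := by rw [← pow_mul, pow_succ']
  have hfz : ∀ z ∈ zpowers a, f g * z * (f g)⁻¹ = z ^ k := by
    intro z hz
    rw [hg, hiter _ z hz]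
    apply pow_eq_pow_iff_modEq.2
    have h1 : orderOf z ∣ p := by
      rw [← ha]
      obtain ⟨i, rfl⟩ := hz
      exact orderOf_dvd_of_pow_eq_one (by
        show (a ^ i) ^ orderOf a = 1
        rw [← zpow_natCast, ← zpow_mul, mul_comm, zpow_mul, zpow_natCast, pow_orderOf_eq_one, one_zpow])
    refine Nat.ModEq.of_dvd h1 ?_
    have : ((k ^ (p ^ s) : ℕ) : ZMod p) = (k : ZMod p) := by
      push_cast
      exact ZMod.pow_card_pow _
    exact (ZMod.natCast_eq_natCast_iff _ _ _).1 this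
  -- `g` normalises `P`
  have hgP0 : ∀ x : A, x ∈ P → ∃ y : A, y ∈ P ∧ (y : H) = g0 * x * g0⁻¹ := hu
  have hgPi : ∀ (i : ℕ) (x : A), x ∈ P → ∃ y : A, y ∈ P ∧ (y : H) = g0 ^ i * x * (g0 ^ i)⁻¹ := by
    intro i
    induction i with
    | zero => intro x hx; exact ⟨x, hx, by simp⟩
    | succ i ih =>
      intro x hx
      obtain ⟨y, hy, hy'⟩ := ih x hx
      obtain ⟨z, hz, hz'⟩ := hgP0 y hy
      refine ⟨z, hz, ?_⟩
      rw [hz', hy', pow_succ']
      group
  set M : Subgroup H := P.toSubgroup.map A.subtype with hM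
  have hMp : IsPGroup p M := P.isPGroup'.map A.subtype
  have hgM : ∀ x ∈ M, g * x * g⁻¹ ∈ M := by
    rintro _ ⟨x, hx, rfl⟩
    obtain ⟨y, hy, hy'⟩ := hgPi (p ^ s) x hx
    rw [← hg] at hy'
    show g * (x : H) * g⁻¹ ∈ M
    rw [← hy']
    exact ⟨y, hy, rfl⟩
  let instM : CommGroup M := { (inferInstance : Group M) with
    mul_comm := fun x y => Subtype.ext (hcomm M hMp x x.2 y y.2) }
  let β : M →* M :=
    { toFun := fun x => ⟨g * x * g⁻¹, hgM x x.2⟩
      map_one' := Subtype.ext (by simp)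
      map_mul' := fun x y => Subtype.ext (by
        show g * ((x : H) * y) * g⁻¹ = g * x * g⁻¹ * (g * y * g⁻¹)
        group) }
  have hβ : ∀ (i : ℕ) (x : M), ((β^[i] x : M) : H) = g ^ i * x * (g ^ i)⁻¹ := by
    intro i
    induction i with
    | zero => intro x; simp
    | succ i ih =>
      intro x
      rw [Function.iterate_succ_apply', pow_succ']
      show g * ((β^[i] x : M) : H) * g⁻¹ = _
      rw [ih]
      group
  have hMA : ∀ x : M, f x ∈ zpowers a := by
    rintro ⟨_, x, hx, rfl⟩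
    exact x.2
  let instZ : CommGroup (zpowers a) := { (inferInstance : Group (zpowers a)) with
    mul_comm := fun x y => Subtype.ext (by
      obtain ⟨i, hi⟩ := x.2
      obtain ⟨j, hj⟩ := y.2
      have hi' : a ^ i = x := hi
      have hj' : a ^ j = y := hj
      show (x : Q) * y = y * x
      rw [← hi', ← hj', ← zpow_add, ← zpow_add, add_comm]) }
  let F : M →* zpowers a := (f.comp M.subtype).codRestrict (zpowers a) hMA
  obtain ⟨x0, hx0, hox0⟩ := exists_sylow_map f A P ha hAmap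
  let u0 : M := ⟨x0, ⟨x0, hx0, rfl⟩⟩
  have hu0 : orderOf (F u0) = p := by
    rw [← hox0, ← Subgroup.orderOf_coe]
    rfl
  obtain ⟨x, hx, hx'⟩ := eigen (M := M) (C := zpowers a) hMp β (n := orderOf g) (by
      intro x
      apply Subtype.ext
      rw [hβ, pow_orderOf_eq_one, one_mul, inv_one, mul_one]) hog F (k := k) (by
      intro x
      apply Subtype.ext
      show f (g * x * g⁻¹) = (f x) ^ k
      rw [map_mul, map_mul, map_inv]
      exact hfz _ (hMA x)) hu0
  refine ⟨x, g, ?_, ?_⟩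
  · rw [Subgroup.orderOf_coe]
    exact hx
  · exact congrArg Subtype.val hx'

open Subgroup in
/-- **A section lemma.** Let `A` be an abelian subgroup of the finite group `G` with `p ∤ |G : A|`. If a quotient of a subgroup
of `G` contains an element `a` of order `p` and an element `b` with `b a b⁻¹ = a ^ k`, then some `x ∈ A` of order `p` is
conjugate in `G` to `x ^ k`. -/
theorem exists_conj_pow {G : Type*} [Group G] [Finite G] {p : ℕ} [Fact p.Prime] (A : Subgroup G)
    (hA : ∀ x ∈ A, ∀ y ∈ A, x * y = y * x) (hpA : ¬ p ∣ A.index) {H : Subgroup G} {Q : Type*} [Group Q] (f : H →* Q)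
    {a b : Q} (ha : orderOf a = p) (ha' : a ∈ f.range) (hb' : b ∈ f.range) {k : ℕ} (hab : b * a * b⁻¹ = a ^ k) :
    ∃ x ∈ A, ∃ g : G, orderOf x = p ∧ g * x * g⁻¹ = x ^ k := by
  have key : ∀ P : Subgroup G, IsPGroup p P → ∃ g : G, ∀ x ∈ P, g⁻¹ * x * g ∈ A := by
    intro P hP
    have h1 : ¬ p ∣ Nat.card (G ⧸ A) := hpA
    obtain ⟨c, hc⟩ := hP.nonempty_fixed_point_of_prime_not_dvd_card (G ⧸ A) h1
    obtain ⟨g, rfl⟩ := QuotientGroup.mk_surjective c
    refine ⟨g, fun x hx => ?_⟩
    have h2 : ((x * g : G) : G ⧸ A) = (g : G ⧸ A) := hc ⟨x, hx⟩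
    have h3 := QuotientGroup.eq.1 h2.symm
    rwa [← mul_assoc] at h3
  have hcommG : ∀ P : Subgroup G, IsPGroup p P → ∀ x ∈ P, ∀ y ∈ P, x * y = y * x := by
    intro P hP x hx y hy
    obtain ⟨g, hg⟩ := key P hP
    have h1 := hA _ (hg x hx) _ (hg y hy)
    have h2 : g⁻¹ * (x * y) * g = g⁻¹ * (y * x) * g := by
      calc g⁻¹ * (x * y) * g = g⁻¹ * x * g * (g⁻¹ * y * g) := by group
        _ = g⁻¹ * y * g * (g⁻¹ * x * g) := h1
        _ = _ := by group
    simpa using h2
  obtain ⟨x, g, hx, hg⟩ := exists_conj_pow_aux f (by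
    intro P hP x hx y hy
    have hP' : IsPGroup p (P.map H.subtype) := hP.map _
    exact Subtype.ext (hcommG _ hP' x ⟨x, hx, rfl⟩ y ⟨y, hy, rfl⟩)) ha ha' hb' hab
  obtain ⟨c, hc⟩ := key (zpowers (x : G)) (IsPGroup.of_card (n := 1) (by
    rw [Nat.card_zpowers, Subgroup.orderOf_coe, hx, pow_one]))
  refine ⟨c⁻¹ * x * c, hc _ (mem_zpowers _), c⁻¹ * g * c, ?_, ?_⟩
  · rw [show c⁻¹ * (x : G) * c = MulAut.conj c⁻¹ x by simp, MulEquiv.orderOf_eq, Subgroup.orderOf_coe, hx]
  · have hg' : (g : G) * x * (g : G)⁻¹ = (x : G) ^ k := congrArg Subtype.val hg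
    rw [show c⁻¹ * (x : G) * c = MulAut.conj c⁻¹ x by simp, ← map_pow, ← hg', MulAut.conj_apply, MulAut.conj_apply]
    group

end Cfsg.Agent.H191.CoprimeEigen
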