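import Mathlib
set_option linter.all false

/-!
# Conjugate diagonal matrices have the same eigenvalue counts
-/

set_option autoImplicit false

namespace Cfsg.Agent.H191.DiagCount

open Matrix Polynomial

theorem count_eq_of_conj {ι K : Type*} [Fintype ι] [DecidableEq ι] [Field K] [DecidableEq K] {d d' : ι → K}
    {x y g : GL ι K} (hx : (x : Matrix ι ι K) = diagonal d) (hy : (y : Matrix ι ι K) = diagonal d')
    (h : g * x * g⁻¹ = y) (z : K) :
    (Finset.univ.filter fun i => d i = z).card = (Finset.univ.filter fun i => d' i = z).card := by
  have h1 : (diagonal d').charpoly = (diagonal d).charpoly := by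
    rw [← hx, ← hy, ← h]
    show (((g * x * g⁻¹ : GL ι K) : Matrix ι ι K)).charpoly = _
    rw [Units.val_mul, Units.val_mul, Matrix.coe_units_inv]
    exact charpoly_units_conj g (x : Matrix ι ι K)
  rw [charpoly_diagonal, charpoly_diagonal] at h1
  have h2 : ∀ e : ι → K, (∏ i, (X - C (e i))).roots = Finset.univ.val.map e := by
    intro e
    have := Polynomial.roots_multiset_prod_X_sub_C (Finset.univ.val.map e)
    rw [Multiset.map_map] at this
    exact this
  have h3 : (Finset.univ.val.map d' : Multiset K) = Finset.univ.val.map d := by
    rw [← h2, ← h2, h1]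
  have h4 := congrArg (Multiset.count z) h3
  rw [Multiset.count_map, Multiset.count_map] at h4
  have h5 : ∀ e : ι → K, (Finset.univ.filter fun i => e i = z).card =
      Multiset.card (Multiset.filter (fun a => z = e a) Finset.univ.val) := by
    intro e
    rw [Finset.card_def, Finset.filter_val]
    congr 1
    exact Multiset.filter_congr fun i _ => eq_comm
  rw [h5, h5, h4]

end Cfsg.Agent.H191.DiagCount
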