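import Cfsg.Agent.H191.MinCover
import Cfsg.Agent.H189.MinCov
set_option linter.all false

/-!
# Minimal covers of `A_12` whose Sylow 2- and 3-subgroups of the kernel are centralised by the elements of order 11
-/

set_option autoImplicit false

namespace Cfsg.Agent.H191.A12Cover

open Module Cfsg.Agent.H191.AltTab Cfsg.Agent.H191.MinCover Cfsg.Agent.H191.PermLemma Cfsg.Agent.H191.ConjFam
open Cfsg.Agent.H191.AltT

section

variable {H : Type*} [Group H] [Finite H] {φ : H →* A12} (M : MinCov φ) {l : ℕ} [hl : Fact l.Prime]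

/-- a Sylow subgroup of the kernel as a subgroup of the group -/
def SS (φ : H →* A12) (P : Sylow l φ.ker) : Subgroup H := (P : Subgroup φ.ker).map φ.ker.subtype

omit [Finite H] hl in
theorem SS_le (P : Sylow l φ.ker) : SS φ P ≤ φ.ker := Subgroup.map_subtype_le _

omit [Finite H] hl in
theorem SS_pow (P : Sylow l φ.ker) {x : H} (hx : x ∈ SS φ P) : ∃ n, x ^ l ^ n = 1 := by
  obtain ⟨y, hy, rfl⟩ := hx
  obtain ⟨n, hn⟩ := P.isPGroup' ⟨y, hy⟩
  refine ⟨n, ?_⟩
  have h1 : (y : φ.ker) ^ l ^ n = 1 := congrArg Subtype.val hn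
  exact congrArg Subtype.val h1

omit [Finite H] hl in
theorem SS_isPGroup (P : Sylow l φ.ker) : IsPGroup l (SS φ P) := P.isPGroup'.map _

include M in
theorem SS_normal (P : Sylow l φ.ker) : (SS φ P).Normal :=
  Cfsg.Agent.H189.MinCov.IsMin.sylow_normal (π := φ) ⟨M.surj, M.min⟩ φ.ker le_rfl P

include M in
theorem exists_eleven : ∃ s : H, (∃ a, s ^ 11 ^ a = 1) ∧ φ s ≠ 1 := by
  have h11 : Fact (Nat.Prime 11) := ⟨by norm_num⟩
  obtain ⟨a, ha⟩ := exists_prime_orderOf_dvd_card' (G := A12) 11 (by rw [card_A12]; norm_num)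
  obtain ⟨x, rfl⟩ := M.surj a
  obtain ⟨e, b, hb, ho⟩ := Nat.exists_eq_pow_mul_and_not_dvd (orderOf_pos x).ne' 11 (by norm_num)
  refine ⟨x ^ b, ⟨e, ?_⟩, ?_⟩
  · rw [← pow_mul]
    have : b * 11 ^ e = orderOf x := by rw [ho]; ring
    rw [this, pow_orderOf_eq_one]
  · rw [map_pow]
    intro h
    apply hb
    rw [← ha]
    exact orderOf_dvd_of_pow_eq_one h

include M in
theorem SS_central (P : Sylow l φ.ker)
    (h : ∀ s : H, (∃ a, s ^ 11 ^ a = 1) → ∀ x ∈ SS φ P, s * x * s⁻¹ = x) : SS φ P ≤ Subgroup.center H := by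
  have := SS_normal M P
  rcases eq_top_or M (Subgroup.centralizer (SS φ P : Set H)) with h1 | h1
  · intro x hx
    rw [Subgroup.mem_center_iff]
    intro g
    have h2 : g ∈ Subgroup.centralizer (SS φ P : Set H) := by rw [h1]; trivial
    exact (Subgroup.mem_centralizer_iff.1 h2 x hx).symm
  · exfalso
    obtain ⟨s, hs, hs'⟩ := exists_eleven M
    apply hs'
    apply MonoidHom.mem_ker.1
    apply h1
    rw [Subgroup.mem_centralizer_iff]
    intro x hx
    have h2 := h s hs x hx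
    rw [mul_inv_eq_iff_eq_mul] at h2
    exact h2.symm

theorem exists_Q (P : Sylow l φ.ker) (hc : SS φ P ≤ Subgroup.center H) :
    ∃ Q : Subgroup H, Q.Normal ∧ Q ≤ φ.ker ∧ (∀ x ∈ Q, ∃ m : ℕ, Nat.Coprime m l ∧ x ^ m = 1) ∧
      ∀ x, φ x = 1 → ∃ z ∈ SS φ P, x * z⁻¹ ∈ Q := by
  have hcc : ∀ x ∈ (P : Subgroup φ.ker), ∀ g : H, g * (x : H) = (x : H) * g := fun x hx g =>
    Subgroup.mem_center_iff.1 (hc ⟨x, hx, rfl⟩) g
  have hN : (P : Subgroup φ.ker).Normal := by
    refine ⟨fun x hx g => ?_⟩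
    have : g * x * g⁻¹ = x := by
      apply Subtype.ext
      show (g : H) * x * (g : H)⁻¹ = x
      rw [hcc x hx, mul_inv_cancel_right]
    rw [this]
    exact hx
  obtain ⟨Q0, hQ0⟩ := Subgroup.exists_right_complement'_of_coprime (N := (P : Subgroup φ.ker)) P.card_coprime_index
  have hidx : (P : Subgroup φ.ker).index = Nat.card Q0 := hQ0.symm.index_eq_card
  have hcop : Nat.Coprime (Nat.card P) (Nat.card Q0) := hidx ▸ P.card_coprime_index
  have hchar : ∀ x : φ.ker, x ^ Nat.card Q0 = 1 → x ∈ Q0 := by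
    intro x hx
    obtain ⟨⟨s, q⟩, hsq⟩ := hQ0.2 x
    have hsq' : (s : φ.ker) * q = x := hsq
    have hcm : Commute (s : φ.ker) q := Subtype.ext (hcc s s.2 q).symm
    rw [← hsq', hcm.mul_pow] at hx
    have h1 : (q : φ.ker) ^ Nat.card Q0 = 1 := congrArg Subtype.val (pow_card_eq_one' (x := q))
    rw [h1, mul_one] at hx
    have h2 : (s : φ.ker) ^ Nat.card P = 1 := congrArg Subtype.val (pow_card_eq_one' (x := s))
    have h3 : orderOf (s : φ.ker) ∣ 1 := by
      rw [← hcop]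
      exact Nat.dvd_gcd (orderOf_dvd_of_pow_eq_one h2) (orderOf_dvd_of_pow_eq_one hx)
    have h4 : (s : φ.ker) = 1 := orderOf_eq_one_iff.1 (Nat.dvd_one.1 h3)
    rw [← hsq', h4, one_mul]
    exact q.2
  refine ⟨Q0.map φ.ker.subtype, ⟨?_⟩, Subgroup.map_subtype_le _, ?_, ?_⟩
  · rintro _ ⟨x, hx, rfl⟩ g
    have hg : g * (x : H) * g⁻¹ ∈ φ.ker := (inferInstance : φ.ker.Normal).conj_mem _ x.2 g
    refine ⟨⟨_, hg⟩, hchar _ ?_, rfl⟩
    apply Subtype.ext
    show (g * (x : H) * g⁻¹) ^ Nat.card Q0 = 1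
    rw [conj_pow]
    have h1 : x ^ Nat.card Q0 = 1 := congrArg Subtype.val (pow_card_eq_one' (x := (⟨x, hx⟩ : Q0)))
    have h2 : (x : H) ^ Nat.card Q0 = 1 := congrArg Subtype.val h1
    rw [h2, mul_one, mul_inv_cancel]
  · rintro _ ⟨x, hx, rfl⟩
    refine ⟨Nat.card Q0, ?_, ?_⟩
    · rw [← hidx]
      exact ((Nat.Prime.coprime_iff_not_dvd hl.out).2 P.not_dvd_index).symm
    · have h1 : x ^ Nat.card Q0 = 1 := congrArg Subtype.val (pow_card_eq_one' (x := (⟨x, hx⟩ : Q0)))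
      exact congrArg Subtype.val h1
  · intro x hx
    obtain ⟨⟨s, q⟩, hsq⟩ := hQ0.2 (⟨x, hx⟩ : φ.ker)
    have hsq' : (s : φ.ker) * q = ⟨x, hx⟩ := hsq
    refine ⟨(s : φ.ker), ⟨s, s.2, rfl⟩, ⟨q, q.2, ?_⟩⟩
    have h1 : ((s : φ.ker) : H) * ((q : φ.ker) : H) = x := congrArg Subtype.val hsq'
    show ((q : φ.ker) : H) = x * ((s : φ.ker) : H)⁻¹
    rw [← h1, ← hcc s s.2, mul_inv_cancel_right]

include M in
theorem card_le_two (P : Sylow l φ.ker) (hc : SS φ P ≤ Subgroup.center H) : Nat.card (SS φ P) ≤ 2 := by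
  obtain ⟨Q, hQn, hQk, hQ, hdec⟩ := exists_Q P hc
  let Z : Subgroup (H ⧸ Q) := φ.ker.map (QuotientGroup.mk' Q)
  have hZn : Z.Normal := (inferInstance : φ.ker.Normal).map _ (QuotientGroup.mk'_surjective Q)
  have hperf := perfect M commutator_A12
  have h1 : commutator (H ⧸ Q) = ⊤ := by
    rw [commutator_def, ← MonoidHom.range_eq_top.2 (QuotientGroup.mk'_surjective Q), MonoidHom.range_eq_map,
      ← Subgroup.map_commutator, ← commutator_def, hperf]
  have hZc : Z ≤ Subgroup.center (H ⧸ Q) := by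
    rintro _ ⟨x, hx, rfl⟩
    obtain ⟨z, hz, hxz⟩ := hdec x (MonoidHom.mem_ker.1 hx)
    have h2 : (QuotientGroup.mk' Q x) = QuotientGroup.mk' Q z := by
      rw [QuotientGroup.mk'_eq_mk']
      refine ⟨(x * z⁻¹)⁻¹, Q.inv_mem hxz, ?_⟩
      rw [mul_inv_rev, inv_inv, ← mul_assoc, Subgroup.mem_center_iff.1 (hc hz) x, mul_inv_cancel_right]
    rw [h2, Subgroup.mem_center_iff]
    intro g
    obtain ⟨g, rfl⟩ := QuotientGroup.mk'_surjective Q g
    rw [← map_mul, ← map_mul, Subgroup.mem_center_iff.1 (hc hz) g]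
  let e : (H ⧸ Q) ⧸ Z ≃* A12 :=
    (QuotientGroup.quotientQuotientEquivQuotient Q φ.ker hQk).trans (QuotientGroup.quotientKerEquivOfSurjective φ M.surj)
  have h2 := Cfsg.Agent.S0892.result 12 (by norm_num) (by norm_num) (by norm_num) Z hZc (by rw [h1]; exact le_top) e
  refine le_trans ?_ h2
  refine Nat.card_le_card_of_injective
    (fun x : SS φ P => (⟨QuotientGroup.mk' Q x, ⟨x, SS_le P x.2, rfl⟩⟩ : Z)) ?_
  intro x y hxy
  have h3 : QuotientGroup.mk' Q (x : H) = QuotientGroup.mk' Q (y : H) := congrArg Subtype.val hxy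
  have h4 : (x : H)⁻¹ * y ∈ Q := QuotientGroup.eq.1 h3
  obtain ⟨m, hm, hm'⟩ := hQ _ h4
  obtain ⟨n, hn⟩ := SS_pow P ((SS φ P).mul_mem ((SS φ P).inv_mem x.2) y.2)
  have h5 : orderOf ((x : H)⁻¹ * y) ∣ 1 := by
    rw [← Nat.Coprime.pow_right n hm]
    exact Nat.dvd_gcd (orderOf_dvd_of_pow_eq_one hm') (orderOf_dvd_of_pow_eq_one hn)
  have h6 : (x : H)⁻¹ * y = 1 := orderOf_eq_one_iff.1 (Nat.dvd_one.1 h5)
  exact Subtype.ext (inv_mul_eq_one.1 h6)

theorem card_SS (P : Sylow l φ.ker) : Nat.card (SS φ P) = Nat.card P :=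
  (Nat.card_congr (Subgroup.equivMapOfInjective _ _ (Subgroup.subtype_injective _)).toEquiv).symm

include M in
/-- the structure of the cover -/
theorem exists_cov (h2 : ∀ P : Sylow 2 φ.ker, SS φ P ≤ Subgroup.center H)
    (h3 : ∀ P : Sylow 3 φ.ker, SS φ P ≤ Subgroup.center H) : ∃ Q Z : Subgroup H, Cov φ Q Z := by
  have f2 : Fact (Nat.Prime 2) := ⟨by norm_num⟩
  have f3 : Fact (Nat.Prime 3) := ⟨by norm_num⟩
  obtain ⟨P2⟩ : Nonempty (Sylow 2 φ.ker) := inferInstance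
  obtain ⟨P3⟩ : Nonempty (Sylow 3 φ.ker) := inferInstance
  obtain ⟨Q, hQn, hQk, hQ, hdec⟩ := exists_Q P2 (h2 P2)
  refine ⟨Q, SS φ P2, ?_⟩
  constructor
  · exact M.surj
  · exact hQn
  · intro x hx
    obtain ⟨m, hm, hm'⟩ := hQ x hx
    exact ⟨m, Nat.coprime_two_right.1 hm, hm'⟩
  · intro x hx
    exact MonoidHom.mem_ker.1 (hQk hx)
  · intro z hz g
    exact (Subgroup.mem_center_iff.1 (h2 P2 hz) g).symm
  · intro z hz
    have h4 := card_le_two M P2 (h2 P2)
    have h5 : orderOf (⟨z, hz⟩ : SS φ P2) ∣ Nat.card (SS φ P2) := orderOf_dvd_natCard _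
    have h6 : Nat.card (SS φ P2) ∣ 2 := by
      have h7 : Nat.card (SS φ P2) ≠ 0 := Nat.card_pos.ne'
      have : Nat.card (SS φ P2) = 1 ∨ Nat.card (SS φ P2) = 2 := by omega
      rcases this with h | h <;> rw [h] <;> norm_num
    have h8 := orderOf_dvd_iff_pow_eq_one.1 (h5.trans h6)
    have h9 : z ^ 2 = 1 := congrArg Subtype.val h8
    rw [← sq]; exact h9
  · intro z hz
    exact MonoidHom.mem_ker.1 (SS_le P2 hz)
  · exact hdec
  · intro hd
    have h4 := card_le_two M P3 (h3 P3)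
    rw [card_SS] at h4
    have h5 : 3 ∣ Nat.card P3 := by
      have h6 := P3.card_eq_multiplicity
      rw [h6]
      apply dvd_pow_self
      have := (Nat.Prime.dvd_iff_one_le_factorization f3.out Nat.card_pos.ne').1 hd
      omega
    have := Nat.le_of_dvd Nat.card_pos h5
    omega

end

section

variable {H : Type*} [Group H] [Finite H] {φ : H →* A12} {Q Z : Subgroup H} (C : Cov φ Q Z)
  {k : Type*} [Field k] [IsAlgClosed k] {p : ℕ} [Fact p.Prime] [CharP k p] (hp5 : 5 ≤ p)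
  {V : Type*} [AddCommGroup V] [Module k V] [FiniteDimensional k V] (ρ : Representation k H V)
  (hV : finrank k V ≤ 27)

theorem exists_conj_t (j : Fin 4) : ∃ a : A12, a * t 0 * a⁻¹ = t j := by
  have h : ∀ j, ∃ m : List (Fin 4), m.foldr (fun i x => mv i * x * (mv i)⁻¹) (t 0) = t j := by
    intro j
    fin_cases j
    · exact ⟨[], rfl⟩
    · exact ⟨[1], by decide +kernel⟩
    · exact ⟨[1, 1], by decide +kernel⟩
    · exact ⟨[2, 1, 1], by decide +kernel⟩
  obtain ⟨m, hm⟩ := h j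
  rw [← hm]
  clear hm
  induction m with
  | nil => exact ⟨1, by simp⟩
  | cons i m ih =>
    obtain ⟨a, ha⟩ := ih
    refine ⟨mv i * a, ?_⟩
    rw [List.foldr_cons, ← ha]
    group

include C hp5 hV in
/-- an element of order three with a small commutator space -/
theorem exists_small : ∃ x : H, x ^ 3 = 1 ∧ x ≠ 1 ∧
    finrank k V ≤ finrank k (End.eigenspace (ρ x) 1) + 6 := by
  obtain ⟨c, hc, hc3, hcφ⟩ := exists_c C.surj C.k3
  have k3 : (3 : k) ≠ 0 := three_ne (p := p) hp5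
  obtain ⟨ω, hω⟩ : ∃ ω : k, ω ^ 2 + ω + 1 = 0 := by
    have h := IsAlgClosed.exists_root (Polynomial.X ^ 2 + Polynomial.X + 1 : Polynomial k) (by
      have : (Polynomial.X ^ 2 + Polynomial.X + 1 : Polynomial k).degree = 2 := by compute_degree!
      rw [this]; norm_num)
    obtain ⟨ω, h⟩ := h
    refine ⟨ω, ?_⟩
    simpa [Polynomial.IsRoot] using h
  have hω1 : ω ≠ 1 := by
    rintro rfl
    apply k3
    linear_combination hω
  have hω3 : ω ^ 3 = 1 := by linear_combination (ω - 1) * hω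
  let D : Fin 4 → Submodule k V := fun j => LinearMap.range (ρ (c j) - 1)
  have hfix : ∀ i j, i ≠ j → ∀ v ∈ D j, ρ (c i) v = v := by
    rintro i j hij _ ⟨x, rfl⟩
    exact AltT.main C ρ hc hc3 hcφ hω1 hω3 hp5 hV hij x
  have hno : ∀ i, ∀ v ∈ D i, ρ (c i) v = v → v = 0 := by
    rintro i _ ⟨x, rfl⟩ hv
    have e0 : (ρ (c i) - 1) x = ρ (c i) x - x := rfl
    rw [e0] at hv ⊢
    have h1 : ρ (c i) (ρ (c i) (ρ (c i) x)) = x := by
      rw [← End.mul_apply, ← End.mul_apply, ← map_mul, ← map_mul]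
      have : c i * c i * c i = 1 := by rw [← hc3 i, pow_succ, sq]
      rw [this, map_one]
      rfl
    rw [map_sub] at hv
    -- `c x = x + v`, `c v = v`
    set y := ρ (c i) x with hy
    have h2 : ρ (c i) y = (2 : k) • y - x := by
      rw [sub_eq_iff_eq_add.1 hv, two_smul]
      abel
    rw [h2, map_sub, map_smul, h2, ← hy] at h1
    have h3 : (3 : k) • (y - x) = 0 := by
      have : (3 : k) • (y - x) = (2 : k) • ((2 : k) • y - x) - y - x := by module
      rw [this, h1, sub_self]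
    exact (smul_eq_zero.1 h3).resolve_left k3
  have hind : iSupIndep D := by
    intro i
    rw [Submodule.disjoint_def]
    intro v hv hv'
    apply hno i v hv
    have h1 : (⨆ j, ⨆ (_ : j ≠ i), D j) ≤ End.eigenspace (ρ (c i)) 1 := by
      refine iSup₂_le fun j hj w hw => ?_
      rw [End.mem_eigenspace_iff, one_smul]
      exact hfix i j hj.symm w hw
    have h2 := h1 hv'
    rwa [End.mem_eigenspace_iff, one_smul] at h2
  have hsum := Lin.sum_finrank_le D hind Finset.univ ⊤ (fun _ _ => le_top)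
  rw [finrank_top] at hsum
  have hle : ∀ j, finrank k (D 0) ≤ finrank k (D j) := by
    intro j
    obtain ⟨a, ha⟩ := exists_conj_t j
    obtain ⟨x, -, hx⟩ := exists_lift φ C.k3 (c := fun _ : Unit => c 0) (d := fun _ : Unit => c j)
      (fun _ _ => rfl) (fun _ => hc3 0) (fun _ _ => rfl) (fun _ => hc3 j) (a := a) (C.surj a)
      (fun _ => by rw [hcφ, hcφ, ha])
    have hx' : x * c 0 * x⁻¹ = c j := hx ()
    refine le_trans (Submodule.finrank_mono (?_ : D 0 ≤ (D j).map (ρ x⁻¹))) (Submodule.finrank_map_le _ _)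
    rintro _ ⟨y, rfl⟩
    refine ⟨(ρ (c j) - 1) (ρ x y), ⟨_, rfl⟩, ?_⟩
    show ρ x⁻¹ (ρ (c j) (ρ x y) - ρ x y) = ρ (c 0) y - y
    rw [map_sub, ← End.mul_apply, ← End.mul_apply, ← End.mul_apply, ← map_mul, ← map_mul, ← map_mul,
      inv_mul_cancel, map_one, End.one_apply, ← hx']
    congr 2
    group
  rw [Fin.sum_univ_four] at hsum
  have h6 : finrank k (D 0) ≤ 6 := by
    have h1 := hle 1
    have h2 := hle 2
    have h3 := hle 3
    omega
  refine ⟨c 0, hc3 0, ?_, ?_⟩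
  · intro h
    have h1 := hcφ 0
    rw [h, map_one] at h1
    exact absurd h1 (by decide +kernel)
  · have h1 := LinearMap.finrank_range_add_finrank_ker (ρ (c 0) - 1)
    have h2 : LinearMap.ker (ρ (c 0) - 1) = End.eigenspace (ρ (c 0)) 1 := by
      ext v
      rw [LinearMap.mem_ker, End.mem_eigenspace_iff, one_smul]
      show ρ (c 0) v - v = 0 ↔ _
      exact sub_eq_zero
    rw [h2] at h1
    have h3 : finrank k (LinearMap.range (ρ (c 0) - 1)) ≤ 6 := h6
    omega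

end

end Cfsg.Agent.H191.A12Cover
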