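import Mathlib
import Cfsg.Agent.H190.Frattini
import Cfsg.Agent.S0892
set_option linter.all false

-- part: H191/Lin
section
/-!
# Simultaneous eigenspaces of finite commuting families

`sim f χ` is the simultaneous eigenspace of the family `f` of endomorphisms for the eigenvalues `χ`.
-/

set_option autoImplicit false

namespace Cfsg.Agent.H191.Lin

open Module

variable {k V : Type*} [Field k] [AddCommGroup V] [Module k V]

theorem finrank_sup_eq {ι : Type*} [FiniteDimensional k V] (W : ι → Submodule k V) (h : iSupIndep W) (S : Finset ι) :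
    finrank k (S.sup W : Submodule k V) = ∑ i ∈ S, finrank k (W i) := by
  classical
  induction S using Finset.induction_on with
  | empty => simp
  | insert a S ha ih =>
    rw [Finset.sup_insert, Finset.sum_insert ha]
    have h1 : Disjoint (W a) (S.sup W) := (h.supIndep' (insert a S)) (Finset.subset_insert a S)
      (Finset.mem_insert_self a S) ha
    have h2 := Submodule.finrank_sup_add_finrank_inf_eq (W a) (S.sup W)
    rw [h1.eq_bot, finrank_bot, add_zero] at h2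
    rw [h2, ih]

theorem sum_finrank_le {ι : Type*} [FiniteDimensional k V] (W : ι → Submodule k V) (h : iSupIndep W) (S : Finset ι)
    (U : Submodule k V) (hU : ∀ i ∈ S, W i ≤ U) : ∑ i ∈ S, finrank k (W i) ≤ finrank k U := by
  rw [← finrank_sup_eq W h S]
  exact Submodule.finrank_mono (Finset.sup_le hU)

theorem sum_finrank_eq {ι : Type*} [FiniteDimensional k V] (W : ι → Submodule k V) (h : iSupIndep W)
    (ht : ⨆ i, W i = ⊤) (S : Finset ι) (hS : ∀ i, i ∉ S → W i = ⊥) : ∑ i ∈ S, finrank k (W i) = finrank k V := by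
  rw [← finrank_sup_eq W h S]
  have h1 : (S.sup W : Submodule k V) = ⊤ := by
    rw [eq_top_iff, ← ht]
    refine iSup_le fun i => ?_
    by_cases hi : i ∈ S
    · exact Finset.le_sup hi
    · rw [hS i hi]; exact bot_le
  rw [h1, finrank_top]

theorem isSemisimple_of_pow (f : End k V) {n : ℕ} (hn : (n : k) ≠ 0) (hf : f ^ n = 1) : f.IsSemisimple := by
  have hsq : Squarefree (Polynomial.X ^ n - 1 : Polynomial k) := by
    apply Polynomial.Separable.squarefree
    have := Polynomial.separable_X_pow_sub_C (1 : k) hn one_ne_zero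
    simpa using this
  apply Module.End.isSemisimple_of_squarefree_aeval_eq_zero hsq
  simp [hf]

/-- simultaneous eigenspace -/
def sim {ι : Type*} (f : ι → End k V) (χ : ι → k) : Submodule k V := ⨅ i, End.eigenspace (f i) (χ i)

theorem mem_sim {ι : Type*} {f : ι → End k V} {χ : ι → k} {v : V} : v ∈ sim f χ ↔ ∀ i, f i v = χ i • v := by
  unfold sim
  rw [Submodule.mem_iInf]
  exact forall_congr' fun i => End.mem_eigenspace_iff

theorem sim_eq {ι : Type*} {f : ι → End k V} (hs : ∀ i, (f i).IsFinitelySemisimple) (χ : ι → k) :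
    sim f χ = ⨅ i, End.maxGenEigenspace (f i) (χ i) := by
  unfold sim
  congr 1
  funext i
  exact ((hs i).maxGenEigenspace_eq_eigenspace _).symm

theorem sim_indep {ι : Type*} {f : ι → End k V} (hc : ∀ i j, Commute (f i) (f j))
    (hs : ∀ i, (f i).IsFinitelySemisimple) : iSupIndep (sim f) := by
  have h1 := Module.End.independent_iInf_maxGenEigenspace_of_forall_mapsTo f
    (fun i j φ => Module.End.mapsTo_maxGenEigenspace_of_comm (hc j i) φ)
  have h2 : sim f = fun χ : ι → k => ⨅ i, End.maxGenEigenspace (f i) (χ i) := by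
    funext χ; exact sim_eq hs χ
  rw [h2]; exact h1

theorem iSup_sim {ι : Type*} [IsAlgClosed k] [FiniteDimensional k V] {f : ι → End k V}
    (hc : ∀ i j, Commute (f i) (f j)) (hs : ∀ i, (f i).IsFinitelySemisimple) : ⨆ χ, sim f χ = ⊤ := by
  have h2 : ∀ χ : ι → k, sim f χ = ⨅ i, End.maxGenEigenspace (f i) (χ i) := fun χ => sim_eq hs χ
  simp only [h2]
  exact Module.End.iSup_iInf_maxGenEigenspace_eq_top_of_iSup_maxGenEigenspace_eq_top_of_commute f
    (fun i j _ => hc i j) (fun i => Module.End.iSup_maxGenEigenspace_eq_top _)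

/-! ### Operators of order three -/

theorem pow_apply_of_eigen {f : End k V} {v : V} {l : k} (h : f v = l • v) (n : ℕ) : (f ^ n) v = l ^ n • v := by
  induction n with
  | zero => simp
  | succ n ih => rw [pow_succ', End.mul_apply, ih, map_smul, h, smul_smul, pow_succ]

theorem pow_eq_one_of_eigen {f : End k V} {v : V} {l : k} (h : f v = l • v) (hv : v ≠ 0) {n : ℕ} (hf : f ^ n = 1) :
    l ^ n = 1 := by
  have h1 := pow_apply_of_eigen h n
  rw [hf, End.one_apply] at h1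
  have h2 : (l ^ n - 1) • v = 0 := by rw [sub_smul, one_smul, ← h1, sub_self]
  rcases smul_eq_zero.1 h2 with h3 | h3
  · exact sub_eq_zero.1 h3
  · exact absurd h3 hv

/-- cube roots of unity -/
theorem cube_root {ω : k} (h1 : ω ≠ 1) (h3 : ω ^ 3 = 1) {l : k} (hl : l ^ 3 = 1) : ∃ j : Fin 3, l = ω ^ (j : ℕ) := by
  have h4 : ω ^ 2 + ω + 1 = 0 := by
    have : (ω - 1) * (ω ^ 2 + ω + 1) = 0 := by ring_nf; rw [h3]; ring
    rcases mul_eq_zero.1 this with h | h
    · exact absurd (sub_eq_zero.1 h) h1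
    · exact h
  have h5 : (l - 1) * ((l - ω) * (l - ω ^ 2)) = 0 := by
    have : (l - 1) * ((l - ω) * (l - ω ^ 2)) = l ^ 3 - 1 - (l ^ 2 - l) * (ω ^ 2 + ω + 1) + (l - 1) * (ω ^ 3 - 1) +
      0 := by ring
    rw [this, h4, h3, hl]; ring
  rcases mul_eq_zero.1 h5 with h | h
  · exact ⟨0, by simpa using sub_eq_zero.1 h⟩
  · rcases mul_eq_zero.1 h with h | h
    · exact ⟨1, by simpa using sub_eq_zero.1 h⟩
    · exact ⟨2, by simpa using sub_eq_zero.1 h⟩

theorem omega_pow_inj {ω : k} (h1 : ω ≠ 1) (h3 : ω ^ 3 = 1) {i j : Fin 3} (h : ω ^ (i : ℕ) = ω ^ (j : ℕ)) : i = j := by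
  have h0 : ω ≠ 0 := by rintro rfl; simp at h3
  have h2 : ω ^ 2 ≠ 1 := by
    intro h2
    apply h1
    have : ω ^ 3 = ω ^ 2 * ω := by ring
    rw [h2, h3, one_mul] at this
    exact this.symm
  have h5 : ω ^ 1 ≠ ω ^ 2 := by
    intro h
    apply h1
    have h4 : ω * ω = ω * 1 := by rw [mul_one, ← sq, ← h, pow_one]
    exact mul_left_cancel₀ h0 h4
  have h6 : ω ^ 0 ≠ ω ^ 1 := by rw [pow_zero, pow_one]; exact h1.symm
  have h7 : ω ^ 0 ≠ ω ^ 2 := by rw [pow_zero]; exact h2.symm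
  fin_cases i <;> fin_cases j
  · rfl
  · exact absurd h h6
  · exact absurd h h7
  · exact absurd h.symm h6
  · rfl
  · exact absurd h h5
  · exact absurd h.symm h7
  · exact absurd h.symm h5
  · rfl

/-- the weight spaces of a commuting family of elements of order three -/
def W3 {ι : Type*} (f : ι → End k V) (ω : k) (v : ι → Fin 3) : Submodule k V := sim f fun i => ω ^ (v i : ℕ)

theorem mem_W3 {ι : Type*} {f : ι → End k V} {ω : k} {v : ι → Fin 3} {x : V} :
    x ∈ W3 f ω v ↔ ∀ i, f i x = ω ^ (v i : ℕ) • x := mem_sim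

section

variable {ι : Type*} [IsAlgClosed k] [FiniteDimensional k V] {f : ι → End k V}
  (hc : ∀ i j, Commute (f i) (f j)) (hf : ∀ i, f i ^ 3 = 1) (h3 : (3 : k) ≠ 0) {ω : k} (hω1 : ω ≠ 1) (hω : ω ^ 3 = 1)

omit [IsAlgClosed k] [FiniteDimensional k V] in
include hf h3 in
theorem ss3 (i : ι) : (f i).IsFinitelySemisimple :=
  (isSemisimple_of_pow _ (n := 3) (by exact_mod_cast h3) (hf i)).isFinitelySemisimple

omit [IsAlgClosed k] [FiniteDimensional k V] in
include hc hf h3 hω1 hω in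
theorem W3_indep : iSupIndep (W3 f ω) := by
  have h1 := sim_indep hc (ss3 hf h3)
  refine h1.comp (f := fun (v : ι → Fin 3) (i : ι) => ω ^ (v i : ℕ)) ?_
  intro v w h
  funext i
  exact omega_pow_inj hω1 hω (congrFun h i)

include hc hf h3 hω1 hω in
theorem iSup_W3 : ⨆ v, W3 f ω v = ⊤ := by
  rw [eq_top_iff, ← iSup_sim hc (ss3 hf h3)]
  refine iSup_le fun χ => ?_
  by_cases h : sim f χ = ⊥
  · rw [h]; exact bot_le
  · obtain ⟨x, hx, hx0⟩ := Submodule.exists_mem_ne_zero_of_ne_bot h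
    have h4 : ∀ i, ∃ j : Fin 3, χ i = ω ^ (j : ℕ) := fun i =>
      cube_root hω1 hω (pow_eq_one_of_eigen (mem_sim.1 hx i) hx0 (hf i))
    choose v hv using h4
    have h5 : sim f χ = W3 f ω v := by
      unfold W3
      congr 1
      funext i; exact hv i
    rw [h5]
    exact le_iSup (W3 f ω) v

include hc hf h3 hω1 hω in
theorem sum_W3 [Fintype ι] [DecidableEq ι] : ∑ v, finrank k (W3 f ω v) = finrank k V :=
  sum_finrank_eq (W3 f ω) (W3_indep hc hf h3 hω1 hω) (iSup_W3 hc hf h3 hω1 hω) Finset.univ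
    (fun i hi => absurd (Finset.mem_univ i) hi)

end

end Cfsg.Agent.H191.Lin
end

-- part: H191/ConjFam
section
/-!
# Lifting families of commuting elements of prime order over a kernel of order prime to it

`conj_family`: two families of commuting elements of order dividing `ℓ` with the same images are conjugate by an element
of the kernel. `exists_lift`: every element of the quotient mapping the images of one family to those of another lifts
to an element mapping the first family to the second.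
-/

set_option autoImplicit false

namespace Cfsg.Agent.H191.ConjFam

open scoped Pointwise

variable {H A : Type*} [Group H] [Group A]

/-- the subgroup generated by a commuting family of elements of order dividing `ℓ` is an `ℓ`-group -/
theorem isPGroup_closure {ι : Type*} {c : ι → H} {ℓ : ℕ} (hc : ∀ i j, c i * c j = c j * c i)
    (hl : ∀ i, c i ^ ℓ = 1) : IsPGroup ℓ (Subgroup.closure (Set.range c)) := by
  rintro ⟨x, hx⟩
  refine ⟨1, Subtype.ext ?_⟩
  show x ^ ℓ ^ 1 = 1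
  rw [pow_one]
  have hcomm : ∀ x ∈ Subgroup.closure (Set.range c), ∀ y ∈ Subgroup.closure (Set.range c), x * y = y * x := by
    intro x hx y hy
    induction hx, hy using Subgroup.closure_induction₂ with
    | mem x y hx hy => obtain ⟨i, rfl⟩ := hx; obtain ⟨j, rfl⟩ := hy; exact hc i j
    | one_left x _ => rw [one_mul, mul_one]
    | one_right x _ => rw [one_mul, mul_one]
    | mul_left x y z _ _ _ h1 h2 => rw [mul_assoc, h2, ← mul_assoc, h1, mul_assoc]
    | mul_right x y z _ _ _ h1 h2 => rw [← mul_assoc, h1, mul_assoc, h2, mul_assoc]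
    | inv_left x y _ _ h => rw [inv_mul_eq_iff_eq_mul, ← mul_assoc, h, mul_inv_cancel_right]
    | inv_right x y _ _ h => rw [eq_inv_mul_iff_mul_eq, ← mul_assoc, ← h, mul_inv_cancel_right]
  induction hx using Subgroup.closure_induction with
  | mem x hx => obtain ⟨i, rfl⟩ := hx; exact hl i
  | one => exact one_pow _
  | mul x y hx hy h1 h2 =>
    have : Commute x y := hcomm x hx y hy
    rw [this.mul_pow, h1, h2, one_mul]
  | inv x _ h => rw [inv_pow, h, inv_one]

variable [Finite H] (φ : H →* A) {ℓ : ℕ} [hℓ : Fact ℓ.Prime] (hk : ¬ ℓ ∣ Nat.card φ.ker)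

omit [Finite H] in
include hk in
theorem eq_one_of_ker {x : H} (hx : φ x = 1) {n : ℕ} (hn : x ^ ℓ ^ n = 1) : x = 1 := by
  have h1 : orderOf x ∣ ℓ ^ n := orderOf_dvd_of_pow_eq_one hn
  have h2 : orderOf x ∣ Nat.card φ.ker := by
    have := orderOf_dvd_natCard (⟨x, hx⟩ : φ.ker)
    rw [← Subgroup.orderOf_coe] at this
    exact this
  have h3 : orderOf x ∣ 1 := by
    have hcop : Nat.Coprime (ℓ ^ n) (Nat.card φ.ker) :=
      Nat.Coprime.pow_left n ((Nat.Prime.coprime_iff_not_dvd hℓ.out).2 hk)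
    have := Nat.dvd_gcd h1 h2
    rwa [hcop] at this
  exact orderOf_eq_one_iff.1 (Nat.dvd_one.1 h3)

include hk in
theorem inj_on {S : Subgroup H} (hS : IsPGroup ℓ S) {x y : H} (hx : x ∈ S) (hy : y ∈ S) (h : φ x = φ y) : x = y := by
  have h1 : x * y⁻¹ ∈ S := S.mul_mem hx (S.inv_mem hy)
  obtain ⟨n, hn⟩ := hS ⟨_, h1⟩
  have h2 : (x * y⁻¹) ^ ℓ ^ n = 1 := congrArg Subtype.val hn
  have h3 := eq_one_of_ker φ hk (x := x * y⁻¹) (by rw [map_mul, map_inv, h, mul_inv_cancel]) h2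
  exact mul_inv_eq_one.1 h3

include hk in
/-- an `ℓ`-subgroup with full image is a Sylow subgroup -/
theorem not_dvd_index {M : Subgroup H} {S : Subgroup H} (hSM : S ≤ M) (hS : IsPGroup ℓ S) (hM : ∀ m ∈ M, ∃ s ∈ S, φ s = φ m) :
    ¬ ℓ ∣ (S.subgroupOf M).index := by
  intro hd
  apply hk
  let f : M →* A := φ.comp M.subtype
  let g : S.subgroupOf M →* A := f.comp (S.subgroupOf M).subtype
  have hr : g.range = f.range := by
    apply le_antisymm
    · rintro _ ⟨x, rfl⟩; exact ⟨x, rfl⟩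
    · rintro _ ⟨⟨m, hm⟩, rfl⟩
      obtain ⟨s, hs, he⟩ := hM m hm
      exact ⟨⟨⟨s, hSM hs⟩, hs⟩, he⟩
  have hfin : Finite f.range := Finite.of_surjective _ f.rangeRestrict_surjective
  have h1 : Nat.card M = Nat.card f.ker * Nat.card f.range := by
    rw [← Subgroup.card_mul_index f.ker, Subgroup.index_ker]
  have h2 : Nat.card (S.subgroupOf M) = Nat.card g.ker * Nat.card f.range := by
    rw [← Subgroup.card_mul_index g.ker, Subgroup.index_ker, hr]
  have h3 := Subgroup.card_mul_index (S.subgroupOf M)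
  rw [h2, h1] at h3
  have h4 : Nat.card g.ker * (S.subgroupOf M).index = Nat.card f.ker := by
    apply Nat.eq_of_mul_eq_mul_right (Nat.card_pos (α := f.range))
    rw [← h3]; ring
  have h5 : Nat.card f.ker ∣ Nat.card φ.ker := by
    let e : f.ker →* φ.ker :=
      { toFun := fun x => ⟨((x : M) : H), x.2⟩
        map_one' := rfl
        map_mul' := fun _ _ => rfl }
    refine Subgroup.card_dvd_of_injective e ?_
    intro x y h
    apply Subtype.ext
    apply Subtype.ext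
    exact congrArg (fun z : φ.ker => (z : H)) h
  exact (hd.trans (Dvd.intro_left _ h4)).trans h5

include hk in
/-- two `ℓ`-subgroups with the same image are conjugate by an element of the kernel -/
theorem exists_conj {S S' : Subgroup H} (hS : IsPGroup ℓ S) (hS' : IsPGroup ℓ S') (h : S.map φ = S'.map φ) :
    ∃ k : H, φ k = 1 ∧ ∀ s ∈ S, k * s * k⁻¹ ∈ S' := by
  classical
  let M : Subgroup H := (S.map φ).comap φ
  have hSM : S ≤ M := fun s hs => ⟨s, hs, rfl⟩
  have hSM' : S' ≤ M := fun s hs => by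
    show φ s ∈ S.map φ
    rw [h]; exact ⟨s, hs, rfl⟩
  have h1 := not_dvd_index φ hk hSM hS (fun m hm => hm)
  have h2 := not_dvd_index φ hk hSM' hS' (fun m hm => by
    have : φ m ∈ S.map φ := hm
    rw [h] at this; exact this)
  let P : Sylow ℓ M := (hS.comap_subtype : IsPGroup ℓ (S.subgroupOf M)).toSylow h1
  let P' : Sylow ℓ M := (hS'.comap_subtype : IsPGroup ℓ (S'.subgroupOf M)).toSylow h2
  obtain ⟨m, hm⟩ := MulAction.exists_smul_eq M P P'
  have hm1 : ∀ s ∈ S, (m : H) * s * (m : H)⁻¹ ∈ S' := by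
    intro s hs
    have h3 : (⟨s, hSM hs⟩ : M) ∈ (P : Subgroup M) := hs
    have h4 : m * ⟨s, hSM hs⟩ * m⁻¹ ∈ ((m • P : Sylow ℓ M) : Subgroup M) := by
      rw [Sylow.coe_subgroup_smul]
      exact Subgroup.smul_mem_pointwise_smul _ (MulAut.conj m) _ h3
    rw [hm] at h4
    exact h4
  have hm2 : φ (m : H) ∈ S'.map φ := by
    have : φ (m : H) ∈ S.map φ := m.2
    rwa [h] at this
  obtain ⟨t, ht, hte⟩ := hm2
  refine ⟨t⁻¹ * m, by rw [map_mul, map_inv, hte, inv_mul_cancel], fun s hs => ?_⟩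
  have : t⁻¹ * m * s * (t⁻¹ * m)⁻¹ = t⁻¹ * (m * s * (m : H)⁻¹) * t := by group
  rw [this]
  exact S'.mul_mem (S'.mul_mem (S'.inv_mem ht) (hm1 s hs)) ht

include hk in
theorem conj_family {ι : Type*} {c c' : ι → H} (hc : ∀ i j, c i * c j = c j * c i) (hl : ∀ i, c i ^ ℓ = 1)
    (hc' : ∀ i j, c' i * c' j = c' j * c' i) (hl' : ∀ i, c' i ^ ℓ = 1) (h : ∀ i, φ (c i) = φ (c' i)) :
    ∃ k : H, φ k = 1 ∧ ∀ i, k * c i * k⁻¹ = c' i := by
  have h1 := isPGroup_closure hc hl
  have h2 := isPGroup_closure hc' hl'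
  obtain ⟨k, hk1, hk2⟩ := exists_conj φ hk h1 h2 (by
    rw [MonoidHom.map_closure, MonoidHom.map_closure, ← Set.range_comp, ← Set.range_comp]
    congr 2
    funext i; exact h i)
  refine ⟨k, hk1, fun i => inj_on φ hk h2 (hk2 _ (Subgroup.subset_closure ⟨i, rfl⟩))
    (Subgroup.subset_closure ⟨i, rfl⟩) ?_⟩
  rw [map_mul, map_mul, map_inv, hk1, h i]
  simp

include hk in
theorem exists_lift {ι : Type*} {c d : ι → H} (hc : ∀ i j, c i * c j = c j * c i) (hl : ∀ i, c i ^ ℓ = 1)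
    (hd : ∀ i j, d i * d j = d j * d i) (hl' : ∀ i, d i ^ ℓ = 1) {a : A} (ha : ∃ h, φ h = a)
    (h : ∀ i, a * φ (c i) * a⁻¹ = φ (d i)) : ∃ x : H, φ x = a ∧ ∀ i, x * c i * x⁻¹ = d i := by
  obtain ⟨g, rfl⟩ := ha
  obtain ⟨k, hk1, hk2⟩ := conj_family φ hk (c := fun i => g * c i * g⁻¹) (c' := d)
    (fun i j => by
      have : g * c i * g⁻¹ * (g * c j * g⁻¹) = g * (c i * c j) * g⁻¹ := by group
      rw [this, hc]; group)
    (fun i => by rw [conj_pow, hl]; simp) hd hl' (fun i => by rw [← h i, map_mul, map_mul, map_inv])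
  refine ⟨k * g, by rw [map_mul, hk1, one_mul], fun i => ?_⟩
  rw [← hk2 i]; group

end Cfsg.Agent.H191.ConjFam
end

-- part: H191/Kill
section
/-!
# Elements of order three without fixed vectors normalising a four-group modulo the kernel
-/

set_option autoImplicit false

namespace Cfsg.Agent.H191.Kill

open Module Cfsg.Agent.H191.Lin Cfsg.Agent.H191.ConjFam

section

variable {k V : Type*} [Field k] [IsAlgClosed k] [AddCommGroup V] [Module k V] [FiniteDimensional k V]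

/-- If `c ^ 3 = 1` has no fixed vectors, `f` has finite order prime to the characteristic and commutes with
`c f c⁻¹` then `f` commutes with `c`. -/
theorem commute_of_fixed {c f : End k V} (hc : c ^ 3 = 1) (hfix : ∀ v, c v = v → v = 0) {m : ℕ} (hm : (m : k) ≠ 0)
    (hf : f ^ m = 1) (hcomm : f * (c * f * c ^ 2) = (c * f * c ^ 2) * f) : c * f * c ^ 2 = f := by
  set f1 := c * f * c ^ 2 with h1
  set f2 := c ^ 2 * f * c with h2
  have hc' : c * c ^ 2 = 1 := by rw [← pow_succ', hc]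
  have hc'' : c ^ 2 * c = 1 := by rw [← pow_succ, hc]
  have e1 : f1 * c = c * f := by rw [h1, mul_assoc, hc'', mul_one]
  have e2 : f2 * c = c * f1 := by
    have h5 : c * f1 = c ^ 2 * f * c ^ 2 := by rw [h1, sq]; noncomm_ring
    rw [h5, h2, mul_assoc, ← sq]
  have e0 : f * c = c * f2 := by
    have h5 : c * f2 = (c * c ^ 2) * f * c := by rw [h2]; noncomm_ring
    rw [h5, hc', one_mul]
  -- conjugation by `c` as a ring endomorphism
  have hcj : ∀ a b : End k V, c * (a * b) * c ^ 2 = (c * a * c ^ 2) * (c * b * c ^ 2) := by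
    intro a b
    calc c * (a * b) * c ^ 2 = c * a * 1 * b * c ^ 2 := by noncomm_ring
      _ = c * a * (c ^ 2 * c) * b * c ^ 2 := by rw [hc'']
      _ = _ := by noncomm_ring
  have hcf1 : c * f1 * c ^ 2 = f2 := by
    rw [← e2, mul_assoc, hc', mul_one]
  have hcf2 : c * f2 * c ^ 2 = f := by
    rw [← e0, mul_assoc, hc', mul_one]
  have hcomm12 : f1 * f2 = f2 * f1 := by
    have := congrArg (fun a => c * a * c ^ 2) hcomm
    simp only [hcj] at this
    rw [hcf1, ← h1] at this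
    exact this
  have hcomm20 : f2 * f = f * f2 := by
    have := congrArg (fun a => c * a * c ^ 2) hcomm12
    simp only [hcj] at this
    rw [hcf1, hcf2] at this
    exact this
  have hf1 : f1 ^ m = 1 := by
    have : ∀ n : ℕ, f1 ^ n = c * f ^ n * c ^ 2 := by
      intro n
      induction n with
      | zero => rw [pow_zero, pow_zero, mul_one, hc']
      | succ n ih => rw [pow_succ f1 n, ih, pow_succ f n, hcj]
    rw [this, hf, mul_one, hc']
  have hf2 : f2 ^ m = 1 := by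
    have : ∀ n : ℕ, f2 ^ n = c * f1 ^ n * c ^ 2 := by
      intro n
      induction n with
      | zero => rw [pow_zero, pow_zero, mul_one, hc']
      | succ n ih => rw [pow_succ f2 n, ih, pow_succ f1 n, hcj, hcf1]
    rw [this, hf1, mul_one, hc']
  let F : Fin 3 → End k V := ![f, f1, f2]
  have hFc : ∀ i j, Commute (F i) (F j) := by
    intro i j
    fin_cases i <;> fin_cases j
    · exact Commute.refl _
    · exact hcomm
    · exact hcomm20.symm
    · exact hcomm.symm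
    · exact Commute.refl _
    · exact hcomm12
    · exact hcomm20
    · exact hcomm12.symm
    · exact Commute.refl _
  have hFs : ∀ i, (F i).IsFinitelySemisimple := by
    intro i
    fin_cases i
    · exact (isSemisimple_of_pow _ hm hf).isFinitelySemisimple
    · exact (isSemisimple_of_pow _ hm hf1).isFinitelySemisimple
    · exact (isSemisimple_of_pow _ hm hf2).isFinitelySemisimple
  have htop := iSup_sim hFc hFs
  refine LinearMap.ext fun v => ?_
  have hv : v ∈ ⨆ χ, sim F χ := htop ▸ Submodule.mem_top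
  induction hv using Submodule.iSup_induction' with
  | mem χ y hy =>
    rw [mem_sim] at hy
    have y0 : f y = χ 0 • y := hy 0
    have y1 : f1 y = χ 1 • y := hy 1
    have y2 : f2 y = χ 2 • y := hy 2
    rw [y0, y1]
    by_cases h01 : χ 0 = χ 1
    · rw [h01]
    -- the sum over the orbit of `c`
    have c0 : f (c y) = χ 2 • c y := by
      rw [← End.mul_apply, e0, End.mul_apply, y2, map_smul]
    have c1 : f1 (c y) = χ 0 • c y := by
      rw [← End.mul_apply, e1, End.mul_apply, y0, map_smul]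
    have c2 : f2 (c y) = χ 1 • c y := by
      rw [← End.mul_apply, e2, End.mul_apply, y1, map_smul]
    have d0 : f (c (c y)) = χ 1 • c (c y) := by
      rw [← End.mul_apply f c, e0, End.mul_apply, c2, map_smul]
    have hs : y + c y + c (c y) = 0 := by
      apply hfix
      rw [map_add, map_add]
      have : c (c (c y)) = y := by
        have := LinearMap.congr_fun hc y
        simpa [pow_succ, End.mul_apply] using this
      rw [this]
      abel
    have s1 : (χ 0 - χ 1) • y + (χ 2 - χ 1) • c y = 0 := by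
      have h5 := congrArg f hs
      rw [map_add, map_add, map_zero, y0, c0, d0] at h5
      have h6 : (χ 0 - χ 1) • y + (χ 2 - χ 1) • c y =
        (χ 0 • y + χ 2 • c y + χ 1 • c (c y)) - χ 1 • (y + c y + c (c y)) := by module
      rw [h6, h5, hs, smul_zero, sub_zero]
    have hy0 : y = 0 := by
      by_cases h02 : χ 0 = χ 2
      · have h5 := congrArg f1 s1
        rw [map_add, map_smul, map_smul, map_zero, y1, c1] at h5
        have h6 : ((χ 0 - χ 1) * (χ 1 - χ 0)) • y =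
          ((χ 0 - χ 1) • χ 1 • y + (χ 2 - χ 1) • χ 0 • c y) - χ 0 • ((χ 0 - χ 1) • y + (χ 2 - χ 1) • c y) := by
          module
        rw [h5, s1, smul_zero, sub_zero] at h6
        rcases smul_eq_zero.1 h6 with h7 | h7
        · exact absurd h7 (mul_ne_zero (sub_ne_zero.2 h01) (sub_ne_zero.2 (Ne.symm h01)))
        · exact h7
      · have h5 := congrArg f s1
        rw [map_add, map_smul, map_smul, map_zero, y0, c0] at h5
        have h6 : ((χ 0 - χ 1) * (χ 0 - χ 2)) • y =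
          ((χ 0 - χ 1) • χ 0 • y + (χ 2 - χ 1) • χ 2 • c y) - χ 2 • ((χ 0 - χ 1) • y + (χ 2 - χ 1) • c y) := by
          module
        rw [h5, s1, smul_zero, sub_zero] at h6
        rcases smul_eq_zero.1 h6 with h7 | h7
        · exact absurd h7 (mul_ne_zero (sub_ne_zero.2 h01) (sub_ne_zero.2 h02))
        · exact h7
    rw [hy0, smul_zero, smul_zero]
  | zero => rw [map_zero, map_zero]
  | add x y _ _ hx hy => rw [map_add, map_add, hx, hy]

end

section

variable {k Y : Type*} [Field k] [IsAlgClosed k] [AddCommGroup Y] [Module k Y] [FiniteDimensional k Y]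
variable {L A : Type*} [Group L] [Finite L] [Group A]

theorem kill (ψ : L →* A) (hk : ¬ 3 ∣ Nat.card ψ.ker) (σ : Representation k L Y) (h2 : (2 : k) ≠ 0)
    (Q : Subgroup A) (hQ : IsPGroup 2 Q) (hQr : Q ≤ ψ.range) {d : A} (hd : ∀ q : A, q ∈ Q ↔ d * q * d⁻¹ ∈ Q)
    {c : L} (hc3 : c ^ 3 = 1) (hcd : ψ c = d) (hfix : ∀ y, σ c y = y → y = 0) {q : A} (hq : q ∈ Q)
    (hcomm : ∀ s s' : L, IsPGroup 2 (Subgroup.closure {s, s'}) → ψ s = q → ψ s' = d * q * d⁻¹ →
      σ (s * s') = σ (s' * s)) : ∃ r, ψ r = d * q * d⁻¹ * q⁻¹ ∧ σ r = 1 := by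
  have : Fact (Nat.Prime 3) := ⟨by norm_num⟩
  have : Fact (Nat.Prime 2) := ⟨by norm_num⟩
  have hQ' : IsPGroup 2 (Q.subgroupOf ψ.range) := hQ.comap_subtype
  obtain ⟨S, hS, hSm, hSn⟩ := Cfsg.Agent.H190.frattini_section ψ.rangeRestrict ψ.rangeRestrict_surjective 2
    (Q.subgroupOf ψ.range) hQ'
  obtain ⟨h, hh, hhS⟩ := hSn ⟨d, ⟨c, hcd⟩⟩ (fun q => hd q)
  have hh' : ψ h = d := congrArg Subtype.val hh
  have hd3 : d ^ 3 = 1 := by rw [← hcd, ← map_pow, hc3, map_one]
  set n := Nat.card ψ.ker with hn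
  have h3n : h ^ (3 * n) = 1 := by
    have h5 : (⟨h ^ 3, by rw [MonoidHom.mem_ker, map_pow, hh', hd3]⟩ : ψ.ker) ^ n = 1 := pow_card_eq_one'
    have := congrArg Subtype.val h5
    rw [pow_mul]
    exact this
  have hn1 : n * n % 3 = 1 := by
    have h5 : n % 3 ≠ 0 := fun h5 => hk (Nat.dvd_of_mod_eq_zero h5)
    have h6 : n % 3 = 1 ∨ n % 3 = 2 := by omega
    rcases h6 with h6 | h6 <;> rw [Nat.mul_mod, h6]
  set c' := h ^ (n * n) with hc'
  have hc'3 : c' ^ 3 = 1 := by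
    rw [hc', ← pow_mul]
    have : n * n * 3 = 3 * n * n := by ring
    rw [this, pow_mul, h3n, one_pow]
  have hψc' : ψ c' = d := by
    rw [hc', map_pow, hh', ← Nat.div_add_mod (n * n) 3, hn1, pow_add, pow_mul, hd3, one_pow, one_mul, pow_one]
  have hc'S : ∀ s ∈ S, c' * s * c'⁻¹ ∈ S := by
    have : ∀ m : ℕ, ∀ s ∈ S, h ^ m * s * (h ^ m)⁻¹ ∈ S := by
      intro m
      induction m with
      | zero => intro s hs; simpa using hs
      | succ m ih =>
        intro s hs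
        have e : h ^ (m + 1) * s * (h ^ (m + 1))⁻¹ = h * (h ^ m * s * (h ^ m)⁻¹) * h⁻¹ := by
          rw [pow_succ']; group
        rw [e]
        exact (hhS _).1 (ih s hs)
    exact this _
  obtain ⟨u, hu1, hu2⟩ := conj_family ψ hk (ι := Unit) (c := fun _ => c') (c' := fun _ => c)
    (fun _ _ => rfl) (fun _ => hc'3) (fun _ _ => rfl) (fun _ => hc3) (fun _ => by rw [hψc', hcd])
  have hu2' : u * c' * u⁻¹ = c := hu2 ()
  -- an element over `q`
  have hqm : (⟨q, hQr hq⟩ : ψ.range) ∈ S.map ψ.rangeRestrict := by rw [hSm]; exact hq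
  obtain ⟨s0, hs0, hs0q⟩ := hqm
  have hs0q' : ψ s0 = q := congrArg Subtype.val hs0q
  set s := u * s0 * u⁻¹ with hs
  have hψs : ψ s = q := by rw [hs, map_mul, map_mul, map_inv, hu1, hs0q']; simp
  have hcs : c * s * c⁻¹ = u * (c' * s0 * c'⁻¹) * u⁻¹ := by rw [← hu2', hs]; group
  let S' : Subgroup L := S.map (MulAut.conj u).toMonoidHom
  have hS' : IsPGroup 2 S' := hS.map _
  have hsS' : s ∈ S' := ⟨s0, hs0, rfl⟩
  have hcsS' : c * s * c⁻¹ ∈ S' := by rw [hcs]; exact ⟨_, hc'S s0 hs0, rfl⟩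
  have hcl : Subgroup.closure {s, c * s * c⁻¹} ≤ S' := by
    rw [Subgroup.closure_le]
    rintro x (rfl | rfl)
    · exact hsS'
    · exact hcsS'
  have hc2 := hcomm s (c * s * c⁻¹) (hS'.to_le hcl) hψs (by rw [map_mul, map_mul, map_inv, hψs, hcd])
  obtain ⟨m, hm⟩ := hS' ⟨s, hsS'⟩
  have hm' : s ^ 2 ^ m = 1 := congrArg Subtype.val hm
  have hcinv : c⁻¹ = c ^ 2 := by
    rw [inv_eq_iff_mul_eq_one, ← pow_succ', hc3]
  have h7 := commute_of_fixed (c := σ c) (f := σ s) (by rw [← map_pow, hc3, map_one]) hfix (m := 2 ^ m)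
    (by push_cast; exact pow_ne_zero _ h2) (by rw [← map_pow, hm', map_one]) (by
      rw [← map_pow, ← map_mul, ← map_mul, ← map_mul, ← map_mul, ← hcinv]
      exact hc2)
  rw [← map_pow, ← map_mul, ← map_mul, ← hcinv] at h7
  refine ⟨c * s * c⁻¹ * s⁻¹, by rw [map_mul, map_mul, map_mul, map_inv, map_inv, hψs, hcd], ?_⟩
  rw [map_mul, h7, ← map_mul, mul_inv_cancel, map_one]

omit [IsAlgClosed k] [FiniteDimensional k Y] in
/-- if an element with image `t` acts trivially then so does every element of order three with image `t`. -/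
theorem kill_three (ψ : L →* A) (hk : ¬ 3 ∣ Nat.card ψ.ker) (σ : Representation k L Y) {r c : L} (hr : σ r = 1)
    (hc : c ^ 3 = 1) (h : ψ r = ψ c) : σ c = 1 := by
  have h1 : ψ (r⁻¹ * c) = 1 := by rw [map_mul, map_inv, h, inv_mul_cancel]
  have h2 : (⟨r⁻¹ * c, h1⟩ : ψ.ker) ^ Nat.card ψ.ker = 1 := pow_card_eq_one'
  have h3 : (r⁻¹ * c) ^ Nat.card ψ.ker = 1 := congrArg Subtype.val h2
  have h4 : σ (r⁻¹ * c) = σ c := by
    have h5 : σ (r * (r⁻¹ * c)) = σ r * σ (r⁻¹ * c) := map_mul _ _ _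
    rw [hr, one_mul, mul_inv_cancel_left] at h5
    exact h5.symm
  have h5 : σ c ^ Nat.card ψ.ker = 1 := by rw [← h4, ← map_pow, h3, map_one]
  have h6 : σ c ^ 3 = 1 := by rw [← map_pow, hc, map_one]
  have h7 : Nat.gcd 3 (Nat.card ψ.ker) = 1 := (Nat.Prime.coprime_iff_not_dvd (by norm_num)).2 hk
  have h8 : orderOf (σ c) ∣ 1 := by
    rw [← h7]
    exact Nat.dvd_gcd (orderOf_dvd_of_pow_eq_one h6) (orderOf_dvd_of_pow_eq_one h5)
  exact orderOf_eq_one_iff.1 (Nat.dvd_one.1 h8)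

end

end Cfsg.Agent.H191.Kill
end

-- part: H191/AltTab
section
/-!
# Elements of the alternating group of degree 12: tables
-/

set_option autoImplicit false

namespace Cfsg.Agent.H191.AltTab

open Equiv

abbrev A12 : Type := alternatingGroup (Fin 12)

/-- an even permutation as an element of the alternating group -/
def mk (σ : Perm (Fin 12)) (h : Perm.sign σ = 1) : A12 := ⟨σ, Perm.mem_alternatingGroup.2 h⟩

theorem coe_mk (σ : Perm (Fin 12)) (h : Perm.sign σ = 1) : ((mk σ h : A12) : Perm (Fin 12)) = σ := rfl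

/-- four disjoint 3-cycles -/
def tp : Fin 4 → Perm (Fin 12) := ![c[0, 1, 2], c[3, 4, 5], c[6, 7, 8], c[9, 10, 11]]

theorem sign_tp : ∀ i, Perm.sign (tp i) = 1 := by decide +kernel

/-- four disjoint 3-cycles -/
def t (i : Fin 4) : A12 := mk (tp i) (sign_tp i)

/-- the moves -/
def mp : Fin 4 → Perm (Fin 12) := ![c[1, 2] * c[4, 5], c[0, 3, 6] * c[1, 4, 7] * c[2, 5, 8],
  c[3, 6, 9] * c[4, 7, 10] * c[5, 8, 11], c[0, 3] * c[1, 4] * c[2, 5] * c[7, 8]]

theorem sign_mp : ∀ i, Perm.sign (mp i) = 1 := by decide +kernel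

def mv (i : Fin 4) : A12 := mk (mp i) (sign_mp i)

def mτ : Fin 4 → Fin 4 → Fin 4 := ![![0, 1, 2, 3], ![2, 0, 1, 3], ![0, 3, 1, 2], ![1, 0, 2, 3]]

def me : Fin 4 → Fin 4 → Fin 3 := ![![2, 2, 1, 1], ![1, 1, 1, 1], ![1, 1, 1, 1], ![1, 1, 2, 1]]

theorem mv_t (m j : Fin 4) : mv m * t (mτ m j) * (mv m)⁻¹ = t j ^ (me m j : ℕ) := by
  have h : ∀ m j, mp m * tp (mτ m j) * (mp m)⁻¹ = tp j ^ (me m j : ℕ) := by decide +kernel
  exact Subtype.ext (h m j)

theorem me_ne : ∀ m j, me m j = 1 ∨ me m j = 2 := by decide +kernel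

/-- the effect of a move on a weight -/
def act (m : Fin 4) (v : Fin 4 → Fin 3) : Fin 4 → Fin 3 := fun j => me m j * v (mτ m j)

/-- the Hamming weight -/
def hw (v : Fin 4 → Fin 3) : Fin 5 := (if v 0 = 0 then 0 else 1) + (if v 1 = 0 then 0 else 1) +
  (if v 2 = 0 then 0 else 1) + (if v 3 = 0 then 0 else 1)

def rep : Fin 5 → Fin 4 → Fin 3 := ![![0, 0, 0, 0], ![0, 0, 0, 1], ![0, 0, 1, 1], ![0, 1, 1, 1], ![1, 1, 1, 1]]

def cd (v : Fin 4 → Fin 3) : ℕ := v 0 + 3 * v 1 + 9 * v 2 + 27 * v 3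

def pTo : List (List (Fin 4)) := [[], [1, 1, 2], [0, 1, 1, 2], [1, 2], [1, 2], [1, 0, 2], [0, 1, 2], [2, 3, 2], [0, 1, 2], [2], [1, 1, 2], [0, 1, 1, 2], [2], [2, 1, 1], [0, 2, 3], [0, 2], [2, 3], [2, 0, 3], [3, 2], [3, 2], [0, 3, 2], [2, 2, 0, 1], [1, 0, 2, 3], [3, 2, 3], [1, 0, 3, 2], [0, 3, 2, 3], [3, 2, 0, 3], [], [1, 1], [0, 1, 1], [1], [1], [1, 0], [0, 1], [0, 1, 0], [0, 1], [], [1, 1], [0, 1, 1], [], [], [0, 1, 3], [0], [1, 3], [0], [3], [3], [0, 3], [2, 2, 0], [3], [1, 0], [1, 0, 3], [0, 1, 0], [0, 3], [2, 0, 1, 2], [1, 2, 0, 2], [2, 0, 1, 2], [2, 0, 2], [1, 2, 0], [1, 0, 2, 0], [0, 2, 0, 2], [0, 1, 0, 2, 0], [0, 1, 2, 0], [2, 0, 1], [0, 2, 0, 1], [2, 0, 1], [2, 0], [2, 1, 3], [2, 0], [0, 2, 0], [0, 2, 0], [2, 0, 3], [3, 2, 0, 1], [3, 2, 0], [0, 3, 2, 0], [1, 2, 0, 1], [1, 2, 0], [0, 3, 2, 0], [3, 2, 0, 1], [3, 2, 0], [0, 1, 2, 0]]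

def pFr : List (List (Fin 4)) := [[], [2, 3], [2, 0, 3], [2], [1, 2], [1, 0, 2], [2, 0], [1, 0, 2, 0], [1, 2, 0], [2, 1], [1, 2, 2], [1, 0, 2, 2], [2, 2], [1, 1, 2], [3, 1, 2], [2, 2, 0], [3, 2, 2], [0, 3, 2, 2], [2, 0, 1], [2, 2, 3], [1, 2, 0, 2], [2, 0, 2], [1, 0, 1, 2], [0, 3, 1, 2], [1, 2, 0, 1], [3, 1, 2, 3], [3, 2, 0, 2], [], [1], [1, 0], [2], [1, 1], [3, 1], [2, 0], [1, 0, 1], [0, 3, 1], [], [1], [1, 0], [], [], [3, 1], [0], [0, 2, 3], [0], [3], [3], [0, 3], [0, 2], [3], [0, 2], [0, 2, 0], [0, 1], [0, 3], [2, 0, 1, 2], [3, 2, 3], [3, 2, 0, 3], [3, 2], [3, 2], [0, 3, 2], [3, 2, 0], [0, 3, 2, 0], [3, 2, 0], [3, 2, 1], [0, 2, 2, 1], [0, 2, 0, 2, 1], [0, 2, 2], [3, 2], [0, 2, 2], [0, 2, 2, 0], [0, 1, 2, 2], [3, 2, 0], [3, 2, 0, 1], [0, 2, 2, 3], [0, 2, 2, 0, 3], [0, 2, 0, 2], [0, 1, 2], [0, 3, 2], [3, 2, 0, 1], [0, 2, 2, 3], [0, 1, 2, 0]]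

theorem path_to : ∀ v : Fin 4 → Fin 3, (pTo.getD (cd v) []).foldl (fun w m => act m w) v = rep (hw v) := by
  decide +kernel

theorem path_from : ∀ v : Fin 4 → Fin 3, (pFr.getD (cd v) []).foldl (fun w m => act m w) (rep (hw v)) = v := by
  decide +kernel

theorem card_hw : ∀ k : Fin 5, (Finset.univ.filter fun v : Fin 4 → Fin 3 => hw v = k).card =
    (![1, 8, 24, 32, 16] : Fin 5 → ℕ) k := by decide +kernel

/-! ### The elements for the four-groups -/

def q1 : A12 := mk (c[0, 1] * c[2, 3]) (by decide +kernel)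
def q2 : A12 := mk (c[0, 3] * c[1, 4]) (by decide +kernel)
def g11 : A12 := mk c[1, 3, 4, 5, 2] (by decide +kernel)
def g12 : A12 := mk c[0, 1, 3, 4, 5] (by decide +kernel)
def g21 : A12 := mk c[2, 4, 3] (by decide +kernel)
def g22 : A12 := mk c[1, 2, 5, 4, 3] (by decide +kernel)

theorem t_comm (i j : Fin 4) : t i * t j = t j * t i := by
  have h : ∀ i j, tp i * tp j = tp j * tp i := by decide +kernel
  exact Subtype.ext (h i j)

theorem t_cube (i : Fin 4) : t i ^ 3 = 1 := by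
  have h : ∀ i, tp i ^ 3 = 1 := by decide +kernel
  exact Subtype.ext (h i)

/-- the relations used to kill an element of order three -/
structure Kit (d q g h : A12) : Prop where
  qq : q * q = 1
  comm : q * (d * q * d⁻¹) = (d * q * d⁻¹) * q
  cyc : d * (d * q * d⁻¹) * d⁻¹ = q * (d * q * d⁻¹)
  prod : (g * (d * q * d⁻¹ * q⁻¹) * g⁻¹) * (h * (d * q * d⁻¹ * q⁻¹) * h⁻¹) = t 0
  qt : ∀ i, 2 ≤ i → q * t i = t i * q
  gt : ∀ i, 2 ≤ i → g * t i = t i * g
  ht : ∀ i, 2 ≤ i → h * t i = t i * h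

theorem kit1 : Kit (t 0) q1 g11 g12 where
  qq := by decide +kernel
  comm := by decide +kernel
  cyc := by decide +kernel
  prod := by decide +kernel
  qt := by decide +kernel
  gt := by decide +kernel
  ht := by decide +kernel

theorem kit2 : Kit (t 0 * t 1) q2 g21 g22 where
  qq := by decide +kernel
  comm := by decide +kernel
  cyc := by decide +kernel
  prod := by decide +kernel
  qt := by decide +kernel
  gt := by decide +kernel
  ht := by decide +kernel

/-- the block permutations -/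
def α (j : Fin 3) : Perm (Fin 12) := (![c[0, 3] * c[6, 9], c[1, 4] * c[7, 10], c[2, 5] * c[8, 11]] :
  Fin 3 → Perm (Fin 12)) j
def β (j : Fin 3) : Perm (Fin 12) := (![c[0, 9] * c[3, 6], c[1, 10] * c[4, 7], c[2, 11] * c[5, 8]] :
  Fin 3 → Perm (Fin 12)) j
def γ (j : Fin 3) : Perm (Fin 12) := (![c[1, 3, 9, 8, 7, 5, 2, 6, 4], c[0, 1, 4] * c[2, 7, 5] * c[3, 10, 9, 8, 6],
  c[0, 2, 8, 6, 3, 11, 10, 9, 7, 4] * c[1, 5]] : Fin 3 → Perm (Fin 12)) j

theorem sign_α : ∀ j, Perm.sign (α j) = 1 := by decide +kernel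
theorem sign_β : ∀ j, Perm.sign (β j) = 1 := by decide +kernel
theorem sign_γ : ∀ j, Perm.sign (γ j) = 1 := by decide +kernel

def aα (j : Fin 3) : A12 := mk (α j) (sign_α j)
def aβ (j : Fin 3) : A12 := mk (β j) (sign_β j)
def aγ (j : Fin 3) : A12 := mk (γ j) (sign_γ j)

theorem B1 : ∀ j, aγ j * q1 * (aγ j)⁻¹ = aα j := by decide +kernel
theorem B2 : ∀ j, aγ j * (t 0 * q1 * (t 0)⁻¹) * (aγ j)⁻¹ = aβ j := by decide +kernel
theorem B3 : ∀ i j, aα i * aβ j = aβ j * aα i := by decide +kernel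
theorem B4 : ∀ i j, aβ i * aβ j = aβ j * aβ i := by decide +kernel
theorem B5 : ∀ i, (aγ i * t 0 * (aγ i)⁻¹) * aα i * (aγ i * t 0 * (aγ i)⁻¹)⁻¹ = aβ i := by decide +kernel
theorem B6 : ∀ i, (aγ i * t 0 * (aγ i)⁻¹) * aβ i * (aγ i * t 0 * (aγ i)⁻¹)⁻¹ = aα i * aβ i := by decide +kernel
theorem B7 : ∀ i j, i ≠ j → (aγ i * t 0 * (aγ i)⁻¹) * aβ j * (aγ i * t 0 * (aγ i)⁻¹)⁻¹ = aβ j := by decide +kernel

def aτ : Fin 4 → Fin 4 := ![1, 0, 3, 2]
def bτ : Fin 4 → Fin 4 := ![3, 2, 1, 0]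

theorem α_t : ∀ j, (aα 0 * (aα 1 * aα 2)) * t (aτ j) * (aα 0 * (aα 1 * aα 2))⁻¹ = t j := by decide +kernel
theorem β_t : ∀ j, (aβ 0 * (aβ 1 * aβ 2)) * t (bτ j) * (aβ 0 * (aβ 1 * aβ 2))⁻¹ = t j := by decide +kernel

end Cfsg.Agent.H191.AltTab
end

-- part: H191/CentralComm
section
/-!
# Commutators in central extensions by a group of exponent two
-/

set_option autoImplicit false

namespace Cfsg.Agent.H191.CentralComm

variable {G A : Type*} [Group G] [Group A]

/-- the commutator -/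
def br (x y : G) : G := x * y * x⁻¹ * y⁻¹

theorem map_br (ψ : G →* A) (x y : G) : ψ (br x y) = br (ψ x) (ψ y) := by
  simp [br]

theorem br_eq_one {x y : G} (h : x * y = y * x) : br x y = 1 := by
  unfold br; rw [h]; group

theorem br_conj (g x y : G) : br (g * x * g⁻¹) (g * y * g⁻¹) = g * br x y * g⁻¹ := by
  unfold br; group

section

variable (ψ : G →* A) (hcen : ∀ z, ψ z = 1 → ∀ g, z * g = g * z)

include hcen

theorem br_congr {x x' y y' : G} (hx : ψ x = ψ x') (hy : ψ y = ψ y') : br x y = br x' y' := by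
  have h1 : ψ (x'⁻¹ * x) = 1 := by rw [map_mul, map_inv, hx, inv_mul_cancel]
  have h2 : ψ (y'⁻¹ * y) = 1 := by rw [map_mul, map_inv, hy, inv_mul_cancel]
  obtain ⟨z, hz⟩ : ∃ z, z = x'⁻¹ * x := ⟨_, rfl⟩
  obtain ⟨w, hw⟩ : ∃ w, w = y'⁻¹ * y := ⟨_, rfl⟩
  have hx' : x = x' * z := by rw [hz]; group
  have hy' : y = y' * w := by rw [hw]; group
  have cz := hcen z (hz ▸ h1)
  have cw := hcen w (hw ▸ h2)
  have czi : ∀ g, z⁻¹ * g = g * z⁻¹ := fun g => by
    rw [inv_mul_eq_iff_eq_mul, ← mul_assoc, cz, mul_inv_cancel_right]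
  have cwi : ∀ g, w⁻¹ * g = g * w⁻¹ := fun g => by
    rw [inv_mul_eq_iff_eq_mul, ← mul_assoc, cw, mul_inv_cancel_right]
  unfold br
  rw [hx', hy']
  calc x' * z * (y' * w) * (x' * z)⁻¹ * (y' * w)⁻¹
      = x' * (z * y') * (w * z⁻¹) * x'⁻¹ * w⁻¹ * y'⁻¹ := by group
    _ = x' * (y' * z) * (z⁻¹ * w) * x'⁻¹ * w⁻¹ * y'⁻¹ := by rw [cz, cw]
    _ = x' * y' * (w * x'⁻¹) * w⁻¹ * y'⁻¹ := by group
    _ = x' * y' * (x'⁻¹ * w) * w⁻¹ * y'⁻¹ := by rw [cw]
    _ = _ := by group

theorem br_central {x y : G} (h : ψ x * ψ y = ψ y * ψ x) (g : G) : br x y * g = g * br x y :=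
  hcen _ (by rw [map_br, br_eq_one h]) g

theorem br_mul_left {a b y : G} (h : ψ b * ψ y = ψ y * ψ b) : br (a * b) y = br a y * br b y := by
  have h1 := br_central ψ hcen h
  calc br (a * b) y = a * (br b y * y) * a⁻¹ * y⁻¹ := by unfold br; group
    _ = a * y * (br b y * a⁻¹) * y⁻¹ := by rw [h1]; group
    _ = a * y * a⁻¹ * (br b y * y⁻¹) := by rw [h1]; group
    _ = _ := by rw [h1]; unfold br; group

theorem br_mul_right {x b c : G} (h : ψ x * ψ c = ψ c * ψ x) : br x (b * c) = br x b * br x c := by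
  have h1 := br_central ψ hcen h
  calc br x (b * c) = x * b * x⁻¹ * (br x c * b⁻¹) := by unfold br; group
    _ = _ := by rw [h1]; unfold br; group

variable (hψ : Function.Surjective ψ) (hexp : ∀ z, ψ z = 1 → z * z = 1)

include hψ in
/-- two fours groups, one of them inverted cyclically by an element centralising the other one -/
theorem br_eq_one_of {a b c : G} {d : A} (hac : ψ a * ψ c = ψ c * ψ a)
    (hbc : ψ b * ψ c = ψ c * ψ b) (h1 : d * ψ a * d⁻¹ = ψ b) (h2 : d * ψ b * d⁻¹ = ψ a * ψ b)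
    (h3 : d * ψ c * d⁻¹ = ψ c) : br a c = 1 := by
  obtain ⟨D, rfl⟩ := hψ d
  have e1 : br a c = br b c := by
    have h4 := br_central ψ hcen hac
    have h5 : br a c = D * br a c * D⁻¹ := by rw [← h4]; group
    rw [h5, ← br_conj]
    exact br_congr ψ hcen (by rw [map_mul, map_mul, map_inv, h1]) (by rw [map_mul, map_mul, map_inv, h3])
  have e2 : br b c = br a c * br b c := by
    have h4 := br_central ψ hcen hbc
    have h5 : br b c = D * br b c * D⁻¹ := by rw [← h4]; group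
    have h6 : br (D * b * D⁻¹) (D * c * D⁻¹) = br (a * b) c :=
      br_congr ψ hcen (by rw [map_mul, map_mul, map_inv, h2, map_mul]) (by rw [map_mul, map_mul, map_inv, h3])
    rw [br_conj, ← h5, br_mul_left ψ hcen hbc] at h6
    exact h6
  exact (mul_eq_right.1 e2.symm)

include hψ hexp in
theorem main {q q' : A} (hqq : q * q' = q' * q) (α β g : Fin 3 → A)
    (hα : ∀ j, g j * q * (g j)⁻¹ = α j) (hβ : ∀ j, g j * q' * (g j)⁻¹ = β j)
    (h0 : ∀ i j, α i * β j = β j * α i) (hββ : ∀ i j, β i * β j = β j * β i)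
    (hd : ∀ i j, i ≠ j → ∃ d : A, d * α i * d⁻¹ = β i ∧ d * β i * d⁻¹ = α i * β i ∧ d * β j * d⁻¹ = β j)
    {x y X Y : G} (hx : ψ x = q) (hy : ψ y = q') (hX : ψ X = α 0 * (α 1 * α 2)) (hY : ψ Y = β 0 * (β 1 * β 2)) :
    br X Y = br x y := by
  choose γ hγ using fun j => hψ (g j)
  obtain ⟨a, ha'⟩ : ∃ a : Fin 3 → G, ∀ j, a j = γ j * x * (γ j)⁻¹ := ⟨_, fun _ => rfl⟩
  obtain ⟨b, hb'⟩ : ∃ b : Fin 3 → G, ∀ j, b j = γ j * y * (γ j)⁻¹ := ⟨_, fun _ => rfl⟩
  have ha : ∀ j, ψ (a j) = α j := fun j => by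
    rw [ha', map_mul, map_mul, map_inv, hγ, hx, hα]
  have hb : ∀ j, ψ (b j) = β j := fun j => by
    rw [hb', map_mul, map_mul, map_inv, hγ, hy, hβ]
  have hz := br_central ψ hcen (x := x) (y := y) (by rw [hx, hy, hqq])
  have e1 : ∀ j, br (a j) (b j) = br x y := by
    intro j
    rw [ha', hb', br_conj, ← hz]; group
  have e2 : ∀ i j, i ≠ j → br (a i) (b j) = 1 := by
    intro i j hij
    obtain ⟨d, h1, h2, h3⟩ := hd i j hij
    exact br_eq_one_of ψ hcen hψ (a := a i) (b := b i) (c := b j) (d := d)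
      (by rw [ha, hb, h0]) (by rw [hb, hb, hββ]) (by rw [ha, hb, h1]) (by rw [ha, hb, h2]) (by rw [hb, h3])
  have e3 : br X Y = br (a 0 * (a 1 * a 2)) (b 0 * (b 1 * b 2)) :=
    br_congr ψ hcen (by rw [hX, map_mul ψ (a 0), map_mul ψ (a 1), ha, ha, ha])
      (by rw [hY, map_mul ψ (b 0), map_mul ψ (b 1), hb, hb, hb])
  have e4 : ∀ i, br (a i) (b 0 * (b 1 * b 2)) = br (a i) (b 0) * (br (a i) (b 1) * br (a i) (b 2)) := by
    intro i
    rw [br_mul_right ψ hcen, br_mul_right ψ hcen]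
    · rw [ha, hb, h0]
    · rw [map_mul, ha, hb, hb]
      exact (Commute.mul_right (h0 i 1) (h0 i 2) : Commute _ _)
  have e5 : ∀ i, br (a i) (b 0 * (b 1 * b 2)) = br x y := by
    intro i
    rw [e4]
    fin_cases i
    · show br (a 0) (b 0) * (br (a 0) (b 1) * br (a 0) (b 2)) = _
      rw [e1, e2 0 1 (by decide), e2 0 2 (by decide), mul_one, mul_one]
    · show br (a 1) (b 0) * (br (a 1) (b 1) * br (a 1) (b 2)) = _
      rw [e1, e2 1 0 (by decide), e2 1 2 (by decide), mul_one, one_mul]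
    · show br (a 2) (b 0) * (br (a 2) (b 1) * br (a 2) (b 2)) = _
      rw [e1, e2 2 0 (by decide), e2 2 1 (by decide), one_mul, one_mul]
  have hc : ∀ i, ψ (a i) * ψ (b 0 * (b 1 * b 2)) = ψ (b 0 * (b 1 * b 2)) * ψ (a i) := by
    intro i
    rw [map_mul, map_mul, ha, hb, hb, hb]
    exact (Commute.mul_right (h0 i 0) (Commute.mul_right (h0 i 1) (h0 i 2)) : Commute _ _)
  rw [e3, br_mul_left ψ hcen (by
    rw [map_mul ψ (a 1)]
    exact (Commute.mul_left (hc 1) (hc 2) : Commute _ _)), br_mul_left ψ hcen (hc 2), e5, e5, e5]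
  have hzz : br x y * br x y = 1 := hexp _ (by rw [map_br, hx, hy, br_eq_one hqq])
  rw [hzz, mul_one]

end

end Cfsg.Agent.H191.CentralComm
end

-- part: H191/AltT
section
/-!
# Small modules of covers of the alternating group of degree 12

`main`: `H` a finite group with a surjection to `A_12` whose kernel is the product of a normal `p`-subgroup and a central
subgroup of exponent two. In every `H`-module of dimension at most 27 in characteristic `p ≥ 5` the elements of order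
three over two disjoint 3-cycles satisfy `(c_i - 1) (c_j - 1) = 0`.
-/

set_option autoImplicit false

namespace Cfsg.Agent.H191.AltT

open Module Cfsg.Agent.H191.Lin Cfsg.Agent.H191.ConjFam Cfsg.Agent.H191.Kill Cfsg.Agent.H191.AltTab
  Cfsg.Agent.H191.CentralComm

/-- a cover of `A_12` -/
structure Cov {H : Type*} [Group H] (φ : H →* A12) (P Z : Subgroup H) : Prop where
  surj : Function.Surjective φ
  nor : P.Normal
  odd : ∀ x ∈ P, ∃ m : ℕ, Odd m ∧ x ^ m = 1
  kP : ∀ x ∈ P, φ x = 1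
  cZ : ∀ z ∈ Z, ∀ g, z * g = g * z
  eZ : ∀ z ∈ Z, z * z = 1
  kZ : ∀ z ∈ Z, φ z = 1
  dec : ∀ x, φ x = 1 → ∃ z ∈ Z, x * z⁻¹ ∈ P
  k3 : ¬ 3 ∣ Nat.card φ.ker

theorem hfact3 : Fact (Nat.Prime 3) := ⟨by norm_num⟩

section split

variable {k V : Type*} [Field k] [AddCommGroup V] [Module k V] {ω : k}

theorem omega_sum (hω1 : ω ≠ 1) (hω : ω ^ 3 = 1) : 1 + ω + ω ^ 2 = 0 := by
  have : (ω - 1) * (1 + ω + ω ^ 2) = 0 := by ring_nf; rw [hω]; ring
  rcases mul_eq_zero.1 this with h | h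
  · exact absurd (sub_eq_zero.1 h) hω1
  · exact h

/-- decomposition of a vector under an operator of order three -/
theorem exists_split {g : End k V} (h3 : (3 : k) ≠ 0) (hω1 : ω ≠ 1) (hω : ω ^ 3 = 1) (hg : g ^ 3 = 1) (x : V) :
    ∃ y : Fin 3 → V, x = ∑ i, y i ∧ (∀ i : Fin 3, g (y i) = ω ^ (i : ℕ) • y i) ∧
      ∀ (h : End k V) (μ : k), h * g = g * h → h x = μ • x → ∀ i, h (y i) = μ • y i := by
  have hggg : g (g (g x)) = x := by
    have := LinearMap.congr_fun hg x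
    simpa [pow_succ, End.mul_apply] using this
  have hs := omega_sum hω1 hω
  refine ⟨fun i => (3 : k)⁻¹ • (x + ω ^ (2 * (i : ℕ)) • g x + ω ^ (i : ℕ) • g (g x)), ?_, ?_, ?_⟩
  · rw [Fin.sum_univ_three]
    simp only [Fin.val_zero, Fin.val_one, Fin.val_two, mul_zero, pow_zero, one_smul, mul_one, pow_one]
    have e : (3 : k)⁻¹ • (x + g x + g (g x)) + (3 : k)⁻¹ • (x + ω ^ 2 • g x + ω • g (g x)) +
      (3 : k)⁻¹ • (x + ω ^ (2 * 2) • g x + ω ^ 2 • g (g x)) =
      ((3 : k)⁻¹ * 3) • x + ((3 : k)⁻¹ * (1 + ω ^ 2 + ω ^ 4)) • g x + ((3 : k)⁻¹ * (1 + ω + ω ^ 2)) • g (g x) := by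
      module
    have e4 : (1 : k) + ω ^ 2 + ω ^ 4 = 0 := by
      have : (1 : k) + ω ^ 2 + ω ^ 4 = (1 + ω + ω ^ 2) + ω * (ω ^ 3 - 1) := by ring
      rw [this, hs, hω]; ring
    rw [e, hs, e4, mul_zero, zero_smul, zero_smul, inv_mul_cancel₀ h3, one_smul, add_zero, add_zero]
  · intro i
    simp only [map_smul, map_add, hggg]
    have h1 : (ω ^ (i : ℕ)) ^ 3 = 1 := by rw [← pow_mul, mul_comm, pow_mul, hω, one_pow]
    have h2 : ω ^ (2 * (i : ℕ)) = (ω ^ (i : ℕ)) ^ 2 := by rw [← pow_mul, mul_comm]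
    rw [h2]
    generalize ω ^ (i : ℕ) = a at h1
    have e : a • (3 : k)⁻¹ • (x + a ^ 2 • g x + a • g (g x)) =
      (3 : k)⁻¹ • (a • x + (a ^ 3) • g x + a ^ 2 • g (g x)) := by module
    rw [e, h1, one_smul]
    module
  · intro h μ hgh hx i
    have h1 : h (g x) = μ • g x := by
      rw [← End.mul_apply, hgh, End.mul_apply, hx, map_smul]
    have h2 : h (g (g x)) = μ • g (g x) := by
      rw [← End.mul_apply h g, hgh, End.mul_apply, h1, map_smul]
    simp only [map_smul, map_add, hx, h1, h2]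
    module

end split

section

variable {k : Type*} [Field k] {p : ℕ} [hp : Fact p.Prime] [CharP k p] (hp5 : 5 ≤ p)

include hp hp5 in
theorem two_ne : (2 : k) ≠ 0 := by
  intro h
  have : p ∣ 2 := (CharP.cast_eq_zero_iff k p 2).1 (by exact_mod_cast h)
  have := Nat.le_of_dvd (by norm_num) this
  omega

include hp hp5 in
theorem three_ne : (3 : k) ≠ 0 := by
  intro h
  have : p ∣ 3 := (CharP.cast_eq_zero_iff k p 3).1 (by exact_mod_cast h)
  have := Nat.le_of_dvd (by norm_num) this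
  omega

theorem eq_one_of_pow_char {μ : k} {n : ℕ} (h : μ ^ p ^ n = 1) : μ = 1 := by
  have h1 : (μ - 1) ^ p ^ n = 0 := by
    rw [sub_pow_char_pow, h, one_pow, sub_self]
  exact sub_eq_zero.1 (pow_eq_zero_iff (pow_ne_zero n hp.out.ne_zero) |>.1 h1)

end

variable {k : Type*} [Field k] {p : ℕ} [hp : Fact p.Prime] [CharP k p]
  {H : Type*} [Group H] {φ : H →* A12} {P Z : Subgroup H} (C : Cov φ P Z)
  {V : Type*} [AddCommGroup V] [Module k V] (ρ : Representation k H V)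
  {c : Fin 4 → H} (hc : ∀ i j, c i * c j = c j * c i) (hc3 : ∀ i, c i ^ 3 = 1) (hcφ : ∀ i, φ (c i) = t i)
  {ω : k} (hω1 : ω ≠ 1) (hω : ω ^ 3 = 1)

/-- the weight spaces -/
def Wt (c : Fin 4 → H) (ω : k) (v : Fin 4 → Fin 3) : Submodule k V := W3 (fun i => ρ (c i)) ω v

theorem mem_Wt {c : Fin 4 → H} {ω : k} {v : Fin 4 → Fin 3} {x : V} :
    x ∈ Wt ρ c ω v ↔ ∀ i, ρ (c i) x = ω ^ (v i : ℕ) • x := mem_W3

theorem omega_two (hω : ω ^ 3 = 1) (a : Fin 3) : ω ^ ((2 * a : Fin 3) : ℕ) = (ω ^ (a : ℕ)) ^ 2 := by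
  fin_cases a
  · simp
  · show ω ^ 2 = (ω ^ 1) ^ 2
    rw [pow_one]
  · show ω ^ 1 = (ω ^ 2) ^ 2
    rw [← pow_mul, pow_one]
    have : ω ^ (2 * 2) = ω ^ 3 * ω := by ring
    rw [this, hω, one_mul]

include C hc hc3 hcφ hω in
theorem finrank_act_le [Finite H] [FiniteDimensional k V] (m : Fin 4) (v : Fin 4 → Fin 3) (U : Submodule k V)
    (hU : ∀ h, ∀ x ∈ U, ρ h x ∈ U) :
    finrank k (Wt ρ c ω v ⊓ U : Submodule k V) ≤ finrank k (Wt ρ c ω (act m v) ⊓ U : Submodule k V) := by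
  have : Fact (Nat.Prime 3) := hfact3
  obtain ⟨h, -, hh⟩ := exists_lift φ C.k3 (c := fun j => c (mτ m j)) (d := fun j => c j ^ (me m j : ℕ))
    (fun i j => hc _ _) (fun i => hc3 _)
    (fun i j => ((show Commute (c i) (c j) from hc i j).pow_pow _ _).eq)
    (fun i => by rw [← pow_mul, mul_comm, pow_mul, hc3, one_pow]) (a := mv m) (C.surj _)
    (fun i => by rw [hcφ, map_pow, hcφ, mv_t])
  have hmem : ∀ x ∈ (Wt ρ c ω v ⊓ U : Submodule k V), ρ h x ∈ (Wt ρ c ω (act m v) ⊓ U : Submodule k V) := by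
    rintro x ⟨hx, hxU⟩
    refine ⟨?_, hU h x hxU⟩
    rw [SetLike.mem_coe, mem_Wt] at hx ⊢
    intro j
    have e1 : ρ (c j ^ (me m j : ℕ)) (ρ h x) = ω ^ (v (mτ m j) : ℕ) • ρ h x := by
      rw [← End.mul_apply, ← map_mul, ← hh j, inv_mul_cancel_right, map_mul, End.mul_apply, hx, map_smul]
    rcases me_ne m j with h1 | h1
    · rw [h1] at e1
      have e2 : act m v j = v (mτ m j) := by rw [act, h1, one_mul]
      rw [e2]
      simpa using e1
    · rw [h1] at e1
      have e2 : act m v j = 2 * v (mτ m j) := by rw [act, h1]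
      rw [e2, omega_two hω]
      have e3 : c j = (c j ^ 2) ^ 2 := by rw [← pow_mul, pow_succ, hc3, one_mul]
      have e4 : ρ (c j ^ 2) (ρ h x) = ω ^ (v (mτ m j) : ℕ) • ρ h x := e1
      rw [e3, sq (c j ^ 2), map_mul, End.mul_apply, e4, map_smul, e4, smul_smul, sq]
  let T : (Wt ρ c ω v ⊓ U : Submodule k V) →ₗ[k] (Wt ρ c ω (act m v) ⊓ U : Submodule k V) := (ρ h).restrict hmem
  apply LinearMap.finrank_le_finrank_of_injective (f := T)
  intro x y hxy
  have h1 : ρ h x = ρ h y := congrArg Subtype.val hxy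
  have h2 := congrArg (ρ h⁻¹) h1
  rw [← End.mul_apply, ← End.mul_apply, ← map_mul, inv_mul_cancel, map_one] at h2
  exact Subtype.ext h2

include C hc hc3 hcφ hω in
theorem finrank_foldl_le [Finite H] [FiniteDimensional k V] (U : Submodule k V) (hU : ∀ h, ∀ x ∈ U, ρ h x ∈ U)
    (l : List (Fin 4)) (v : Fin 4 → Fin 3) :
    finrank k (Wt ρ c ω v ⊓ U : Submodule k V) ≤
      finrank k (Wt ρ c ω (l.foldl (fun w m => act m w) v) ⊓ U : Submodule k V) := by
  induction l generalizing v with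
  | nil => exact le_rfl
  | cons m l ih =>
    rw [List.foldl_cons]
    exact (finrank_act_le C ρ hc hc3 hcφ hω m v U hU).trans (ih _)

include C hc hc3 hcφ hω in
/-- the dimensions depend on the Hamming weight only -/
theorem finrank_le_of_hw [Finite H] [FiniteDimensional k V] (U : Submodule k V) (hU : ∀ h, ∀ x ∈ U, ρ h x ∈ U)
    {v v' : Fin 4 → Fin 3} (h : hw v = hw v') :
    finrank k (Wt ρ c ω v ⊓ U : Submodule k V) ≤ finrank k (Wt ρ c ω v' ⊓ U : Submodule k V) := by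
  have h1 := finrank_foldl_le C ρ hc hc3 hcφ hω U hU (pTo.getD (cd v) []) v
  have h2 := finrank_foldl_le C ρ hc hc3 hcφ hω U hU (pFr.getD (cd v') []) (rep (hw v'))
  rw [path_to] at h1
  rw [path_from] at h2
  rw [h] at h1
  exact h1.trans h2

/-- the number of weights of Hamming weight `j` in terms of the multiplicity -/
noncomputable def nn (c : Fin 4 → H) (ω : k) (j : Fin 5) : ℕ := finrank k (Wt ρ c ω (rep j))

theorem hw_rep : ∀ j, hw (rep j) = j := by decide +kernel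

include C hc hc3 hcφ hω in
theorem finrank_Wt [Finite H] [FiniteDimensional k V] (v : Fin 4 → Fin 3) :
    finrank k (Wt ρ c ω v) = nn ρ c ω (hw v) := by
  have h1 := finrank_le_of_hw C ρ hc hc3 hcφ hω ⊤ (fun _ _ _ => trivial) (v := v) (v' := rep (hw v))
    (hw_rep _).symm
  have h2 := finrank_le_of_hw C ρ hc hc3 hcφ hω ⊤ (fun _ _ _ => trivial) (v := rep (hw v)) (v' := v) (hw_rep _)
  rw [inf_top_eq, inf_top_eq] at h1 h2
  exact le_antisymm h1 h2

include C hc hc3 hcφ hω1 hω in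
theorem count [IsAlgClosed k] [Finite H] [FiniteDimensional k V] (h3 : (3 : k) ≠ 0) :
    nn ρ c ω 0 + 8 * nn ρ c ω 1 + 24 * nn ρ c ω 2 + 32 * nn ρ c ω 3 + 16 * nn ρ c ω 4 = finrank k V := by
  classical
  have h1 := sum_W3 (f := fun i => ρ (c i)) (fun i j => by
    show ρ (c i) * ρ (c j) = ρ (c j) * ρ (c i)
    rw [← map_mul, hc, map_mul]) (fun i => by rw [← map_pow, hc3, map_one]) h3 hω1 hω
  have h2 : ∀ v, finrank k (W3 (fun i => ρ (c i)) ω v) = nn ρ c ω (hw v) :=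
    fun v => finrank_Wt C ρ hc hc3 hcφ hω v
  simp only [h2] at h1
  rw [← h1, ← Finset.sum_fiberwise' Finset.univ hw (nn ρ c ω)]
  simp only [Finset.sum_const, card_hw, smul_eq_mul, Fin.sum_univ_five]
  simp only [Matrix.cons_val_zero, Matrix.cons_val_one, Matrix.cons_val]
  ring

/-! ### The kill lemma -/

/-- the centraliser of the last two elements of order three -/
def LL (c : Fin 4 → H) : Subgroup H where
  carrier := {h | ∀ i, 2 ≤ i → h * c i = c i * h}
  one_mem' := fun i _ => by rw [one_mul, mul_one]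
  mul_mem' := by
    intro a b ha hb i hi
    rw [mul_assoc, hb i hi, ← mul_assoc, ha i hi, mul_assoc]
  inv_mem' := by
    intro a ha i hi
    rw [inv_mul_eq_iff_eq_mul, ← mul_assoc, ha i hi, mul_inv_cancel_right]

/-- an eigenspace of the last two elements -/
def YY (c : Fin 4 → H) (ω : k) (a : Fin 3) : Submodule k V :=
  End.eigenspace (ρ (c 2)) (ω ^ (a : ℕ)) ⊓ End.eigenspace (ρ (c 3)) ω

theorem mem_YY {c : Fin 4 → H} {ω : k} {a : Fin 3} {x : V} :
    x ∈ YY ρ c ω a ↔ ρ (c 2) x = ω ^ (a : ℕ) • x ∧ ρ (c 3) x = ω • x := by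
  unfold YY
  rw [Submodule.mem_inf, End.mem_eigenspace_iff, End.mem_eigenspace_iff]

theorem YY_inv {c : Fin 4 → H} {ω : k} {a : Fin 3} {h : H} (hh : h ∈ LL c) {x : V} (hx : x ∈ YY ρ c ω a) :
    ρ h x ∈ YY ρ c ω a := by
  rw [mem_YY] at hx ⊢
  have h2 := hh 2 le_rfl
  have h3 := hh 3 (by decide)
  constructor
  · rw [← End.mul_apply, ← map_mul, ← h2, map_mul, End.mul_apply, hx.1, map_smul]
  · rw [← End.mul_apply, ← map_mul, ← h3, map_mul, End.mul_apply, hx.2, map_smul]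

/-- the representation on `YY` -/
noncomputable def sg (c : Fin 4 → H) (ω : k) (a : Fin 3) : Representation k (LL c) (YY ρ c ω a : Submodule k V) where
  toFun h := (ρ (h : H)).restrict fun _ hx => YY_inv ρ h.2 hx
  map_one' := by
    refine LinearMap.ext fun x => Subtype.ext ?_
    show ρ ((1 : LL c) : H) x = x
    rw [Subgroup.coe_one, map_one]; rfl
  map_mul' := fun g h => by
    refine LinearMap.ext fun x => Subtype.ext ?_
    show ρ ((g * h : LL c) : H) x = ρ g (ρ h x)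
    rw [Subgroup.coe_mul, map_mul]; rfl

theorem sg_apply {c : Fin 4 → H} {ω : k} {a : Fin 3} (h : LL c) (x : (YY ρ c ω a : Submodule k V)) :
    (sg ρ c ω a h x : V) = ρ (h : H) x := rfl

include C hc hc3 hcφ in
theorem exists_LL [Finite H] {x : A12} (hx : ∀ i, 2 ≤ i → x * t i = t i * x) : ∃ h ∈ LL c, φ h = x := by
  have : Fact (Nat.Prime 3) := hfact3
  obtain ⟨h, h1, h2⟩ := exists_lift φ C.k3 (c := fun i : {i : Fin 4 // 2 ≤ i} => c i)
    (d := fun i : {i : Fin 4 // 2 ≤ i} => c i) (fun _ _ => hc _ _) (fun _ => hc3 _) (fun _ _ => hc _ _)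
    (fun _ => hc3 _) (a := x) (C.surj x) (fun i => by rw [hcφ, hx i i.2, mul_inv_cancel_right])
  refine ⟨h, fun i hi => ?_, h1⟩
  have := h2 ⟨i, hi⟩
  rw [mul_inv_eq_iff_eq_mul] at this
  exact this

include C hc hc3 hcφ in
theorem core [IsAlgClosed k] [Finite H] [FiniteDimensional k V] (h2 : (2 : k) ≠ 0) (a : Fin 3) {d q g h : A12}
    (K : Kit d q g h) {x : H} (hxL : x ∈ LL c) (hx3 : x ^ 3 = 1) (hxd : φ x = d)
    (hfix : ∀ y ∈ YY ρ c ω a, ρ x y = y → y = 0)
    (hcomm : ∀ s ∈ LL c, ∀ s' ∈ LL c, IsPGroup 2 (Subgroup.closure {s, s'}) → φ s = q → φ s' = d * q * d⁻¹ →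
      ∀ y ∈ YY ρ c ω a, ρ (s * s') y = ρ (s' * s) y) : ∀ y ∈ YY ρ c ω a, ρ (c 0) y = y := by
  classical
  have : Fact (Nat.Prime 2) := ⟨by norm_num⟩
  let ψ : LL c →* A12 := φ.comp (LL c).subtype
  have hk : ¬ 3 ∣ Nat.card ψ.ker := by
    intro hd
    apply C.k3
    let e : ψ.ker →* φ.ker :=
      { toFun := fun x => ⟨((x : LL c) : H), x.2⟩
        map_one' := rfl
        map_mul' := fun _ _ => rfl }
    refine hd.trans (Subgroup.card_dvd_of_injective e ?_)
    intro x y hxy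
    apply Subtype.ext
    apply Subtype.ext
    exact congrArg (fun z : φ.ker => (z : H)) hxy
  set q' := d * q * d⁻¹ with hq'
  let Q : Subgroup A12 := Subgroup.closure (Set.range ![q, q'])
  have hqq' : q' * q' = 1 := by
    have : q' * q' = d * (q * q) * d⁻¹ := by rw [hq']; group
    rw [this, K.qq]; simp
  have hQ : IsPGroup 2 Q := by
    apply isPGroup_closure
    · intro i j
      fin_cases i <;> fin_cases j
      · rfl
      · exact K.comm
      · exact K.comm.symm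
      · rfl
    · intro i
      fin_cases i
      · show q ^ 2 = 1
        rw [sq, K.qq]
      · show q' ^ 2 = 1
        rw [sq, hqq']
  have hqQ : q ∈ Q := Subgroup.subset_closure ⟨0, rfl⟩
  have hq'Q : q' ∈ Q := Subgroup.subset_closure ⟨1, rfl⟩
  have hdt : ∀ i, 2 ≤ i → d * t i = t i * d := by
    intro i hi
    have := congrArg φ (hxL i hi)
    rwa [map_mul, map_mul, hxd, hcφ] at this
  have hQr : Q ≤ ψ.range := by
    rw [Subgroup.closure_le]
    rintro _ ⟨i, rfl⟩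
    have hq't : ∀ i, 2 ≤ i → q' * t i = t i * q' := by
      intro i hi
      have c1 : Commute d (t i) := hdt i hi
      have c2 : Commute q (t i) := K.qt i hi
      exact ((c1.mul_left c2).mul_left c1.inv_left).eq
    fin_cases i
    · obtain ⟨h, hL, he⟩ := exists_LL C hc hc3 hcφ K.qt
      exact ⟨⟨h, hL⟩, he⟩
    · obtain ⟨h, hL, he⟩ := exists_LL C hc hc3 hcφ hq't
      exact ⟨⟨h, hL⟩, he⟩
  have hQd : ∀ z : A12, z ∈ Q ↔ d * z * d⁻¹ ∈ Q := by
    have h1 : ∀ z ∈ Q, d * z * d⁻¹ ∈ Q := by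
      intro z hz
      have : Q ≤ Q.comap (MulAut.conj d).toMonoidHom := by
        show Subgroup.closure (Set.range ![q, q']) ≤ _
        rw [Subgroup.closure_le]
        rintro _ ⟨i, rfl⟩
        fin_cases i
        · show d * q * d⁻¹ ∈ Q
          exact hq'Q
        · show d * q' * d⁻¹ ∈ Q
          rw [K.cyc]
          exact Q.mul_mem hqQ hq'Q
      exact this hz
    have hd3 : d ^ 3 = 1 := by rw [← hxd, ← map_pow, hx3, map_one]
    intro z
    refine ⟨h1 z, fun hz => ?_⟩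
    have h4 := h1 _ (h1 _ hz)
    have h5 : d * (d * (d * z * d⁻¹) * d⁻¹) * d⁻¹ = d ^ 3 * z * (d ^ 3)⁻¹ := by
      simp only [pow_succ, pow_zero, one_mul]; group
    rw [h5, hd3] at h4
    simpa using h4
  obtain ⟨r, hr1, hr2⟩ := kill ψ hk (sg ρ c ω a) h2 Q hQ hQr hQd (c := ⟨x, hxL⟩) (Subtype.ext hx3) hxd
    (by
      rintro ⟨y, hy⟩ hxy
      exact Subtype.ext (hfix y hy (congrArg Subtype.val hxy))) hqQ (by
      intro s s' hss hs hs'
      refine LinearMap.ext fun y => Subtype.ext ?_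
      have hcl : IsPGroup 2 (Subgroup.closure {(s : H), (s' : H)}) := by
        have h6 : Subgroup.closure {(s : H), (s' : H)} = (Subgroup.closure {s, s'}).map (LL c).subtype := by
          rw [MonoidHom.map_closure, Set.image_pair]; rfl
        rw [h6]
        exact hss.map _
      exact hcomm s s.2 s' s'.2 hcl hs hs' y y.2)
  obtain ⟨G, hG, hGe⟩ := exists_LL C hc hc3 hcφ K.gt
  obtain ⟨G', hG', hGe'⟩ := exists_LL C hc hc3 hcφ K.ht
  let r0 : LL c := (⟨G, hG⟩ * r * ⟨G, hG⟩⁻¹) * (⟨G', hG'⟩ * r * ⟨G', hG'⟩⁻¹)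
  have hr0 : sg ρ c ω a r0 = 1 := by
    have e : ∀ u : LL c, sg ρ c ω a (u * r * u⁻¹) = 1 := by
      intro u
      rw [map_mul, map_mul, hr2, mul_one, ← map_mul, mul_inv_cancel, map_one]
    show sg ρ c ω a (_ * _) = 1
    rw [map_mul, e, e, mul_one]
  have hψr0 : ψ r0 = t 0 := by
    have e : ∀ u : LL c, ψ (u * r * u⁻¹) = ψ u * (d * q * d⁻¹ * q⁻¹) * (ψ u)⁻¹ := by
      intro u
      rw [map_mul, map_mul, map_inv, hr1]
    show ψ (_ * _) = t 0
    rw [map_mul, e, e]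
    have e1 : ψ ⟨G, hG⟩ = g := hGe
    have e2 : ψ ⟨G', hG'⟩ = h := hGe'
    rw [e1, e2]
    exact K.prod
  have hc0 : c 0 ∈ LL c := fun i _ => hc 0 i
  have h8 := kill_three ψ hk (sg ρ c ω a) (r := r0) (c := ⟨c 0, hc0⟩) hr0 (Subtype.ext (hc3 0))
    (by rw [hψr0]; exact (hcφ 0).symm)
  intro y hy
  have h9 := LinearMap.congr_fun h8 ⟨y, hy⟩
  exact congrArg Subtype.val h9

/-! ### Central elements -/

include C in
omit [CharP k p] in
theorem mem_Z (hp5 : 5 ≤ p) {x : H} (hx : φ x = 1) {n : ℕ} (hn : x ^ 2 ^ n = 1) : x ∈ Z := by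
  obtain ⟨z, hz, hu⟩ := C.dec x hx
  obtain ⟨m, hmo, hm'⟩ := C.odd _ hu
  have hcz : Commute x z⁻¹ := (show Commute x z from (C.cZ z hz x).symm).inv_right
  have h1 : (x * z⁻¹) ^ 2 ^ (n + 1) = 1 := by
    have e1 : x ^ 2 ^ (n + 1) = 1 := by rw [pow_succ, pow_mul, hn, one_pow]
    have e2 : z⁻¹ ^ 2 ^ (n + 1) = 1 := by
      rw [pow_succ', pow_mul, inv_pow, sq, C.eZ z hz, inv_one, one_pow]
    rw [hcz.mul_pow, e1, e2, one_mul]
  have hcop : Nat.Coprime m (2 ^ (n + 1)) := Nat.Coprime.pow_right _ (Nat.coprime_two_right.2 hmo)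
  have h2 : orderOf (x * z⁻¹) ∣ 1 := by
    rw [← hcop]
    exact Nat.dvd_gcd (orderOf_dvd_of_pow_eq_one hm') (orderOf_dvd_of_pow_eq_one h1)
  have h3 : x * z⁻¹ = 1 := orderOf_eq_one_iff.1 (Nat.dvd_one.1 h2)
  rw [mul_inv_eq_one.1 h3]
  exact hz

include C in
omit [CharP k p] in
theorem br_mem_Z (hp5 : 5 ≤ p) {s s' : H} (h : IsPGroup 2 (Subgroup.closure {s, s'})) (hs : φ s * φ s' = φ s' * φ s) :
    br s s' ∈ Z := by
  have h1 : s ∈ Subgroup.closure {s, s'} := Subgroup.subset_closure (by simp)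
  have h2 : s' ∈ Subgroup.closure {s, s'} := Subgroup.subset_closure (by simp)
  have h3 : br s s' ∈ Subgroup.closure {s, s'} :=
    mul_mem (mul_mem (mul_mem h1 h2) (inv_mem h1)) (inv_mem h2)
  obtain ⟨n, hn⟩ := h ⟨_, h3⟩
  exact mem_Z C hp5 (by rw [map_br, br_eq_one hs]) (congrArg Subtype.val hn)

include C hc hc3 hcφ hω in
theorem le_of_fixed [Finite H] [FiniteDimensional k V] {z : H} (hz : z ∈ Z) {v0 : Fin 4 → Fin 3}
    (h1 : finrank k (Wt ρ c ω v0) = 1) {w : V} (hw0 : w ≠ 0) (hwm : w ∈ Wt ρ c ω v0) (hzw : ρ z w = w)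
    {v : Fin 4 → Fin 3} (hv : hw v0 = hw v) {x : V} (hx : x ∈ Wt ρ c ω v) : ρ z x = x := by
  let U : Submodule k V := End.eigenspace (ρ z) 1
  have hU : ∀ h, ∀ x ∈ U, ρ h x ∈ U := by
    intro h x hx
    rw [End.mem_eigenspace_iff, one_smul] at hx ⊢
    rw [← End.mul_apply, ← map_mul, C.cZ z hz, map_mul, End.mul_apply, hx]
  have h2 := finrank_le_of_hw C ρ hc hc3 hcφ hω U hU hv
  have h3 : 0 < finrank k (Wt ρ c ω v0 ⊓ U : Submodule k V) := by
    rw [Module.finrank_pos_iff_exists_ne_zero]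
    refine ⟨⟨w, hwm, ?_⟩, ?_⟩
    · show w ∈ U
      rw [End.mem_eigenspace_iff, one_smul, hzw]
    · intro h
      exact hw0 (congrArg Subtype.val h)
  have h4 : finrank k (Wt ρ c ω v) = 1 := by
    rw [finrank_Wt C ρ hc hc3 hcφ hω v, ← hv, ← finrank_Wt C ρ hc hc3 hcφ hω v0, h1]
  have h5 : (Wt ρ c ω v ⊓ U : Submodule k V) = Wt ρ c ω v := by
    apply Submodule.eq_of_le_of_finrank_le inf_le_left
    omega
  have h6 : x ∈ (Wt ρ c ω v ⊓ U : Submodule k V) := h5.symm ▸ hx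
  have h7 : x ∈ U := h6.2
  rwa [End.mem_eigenspace_iff, one_smul] at h7

include hc hc3 hω1 hω in
theorem YY_decomp (h3 : (3 : k) ≠ 0) {a : Fin 3} {x : V} (hx : x ∈ YY ρ c ω a) :
    ∃ z : Fin 3 → Fin 3 → V, x = ∑ i, ∑ j, z i j ∧ (∀ i j, z i j ∈ Wt ρ c ω ![i, j, a, 1]) ∧
      ∀ (h : End k V) (μ : k), h * ρ (c 0) = ρ (c 0) * h → h * ρ (c 1) = ρ (c 1) * h → h x = μ • x →
        ∀ i j, h (z i j) = μ • z i j := by
  rw [mem_YY] at hx
  have hcm : ∀ i j, ρ (c i) * ρ (c j) = ρ (c j) * ρ (c i) := fun i j => by rw [← map_mul, hc, map_mul]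
  have hc3' : ∀ i, ρ (c i) ^ 3 = 1 := fun i => by rw [← map_pow, hc3, map_one]
  obtain ⟨y, hy1, hy2, hy3⟩ := exists_split h3 hω1 hω (hc3' 0) x
  choose z hz1 hz2 hz3 using fun i => exists_split h3 hω1 hω (hc3' 1) (y i)
  refine ⟨z, ?_, ?_, ?_⟩
  · rw [hy1]
    exact Finset.sum_congr rfl fun i _ => hz1 i
  · intro i j
    rw [mem_Wt]
    intro l
    fin_cases l
    · exact hz3 i _ _ (hcm 0 1) (hy2 i) j
    · exact hz2 i j
    · exact hz3 i _ _ (hcm 2 1) (hy3 _ _ (hcm 2 0) hx.1 i) j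
    · have : ρ (c 3) (z i j) = ω • z i j := hz3 i _ _ (hcm 3 1) (hy3 _ _ (hcm 3 0) hx.2 i) j
      show ρ (c 3) (z i j) = ω ^ 1 • z i j
      rw [pow_one, this]
  · intro h μ h0 h1 hx i j
    exact hz3 i _ _ h1 (hy3 _ _ h0 hx i) j

include C hc hc3 hcφ hω in
theorem Wt_eq_bot [Finite H] [FiniteDimensional k V] {v : Fin 4 → Fin 3} (h : nn ρ c ω (hw v) = 0) :
    Wt ρ c ω v = ⊥ := by
  rw [← finrank_Wt C ρ hc hc3 hcφ hω v] at h
  exact Submodule.finrank_eq_zero.1 h

include hω1 hω in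
theorem smul_eq_self {a : Fin 3} (ha : a ≠ 0) {x : V} (h : ω ^ (a : ℕ) • x = x) : x = 0 := by
  by_contra hx
  have h1 : (ω ^ (a : ℕ) - 1) • x = 0 := by rw [sub_smul, one_smul, h, sub_self]
  rcases smul_eq_zero.1 h1 with h2 | h2
  · apply ha
    apply omega_pow_inj hω1 hω
    rw [sub_eq_zero.1 h2, Fin.val_zero, pow_zero]
  · exact hx h2

/-- scalars on a line -/
theorem exists_scalar {W : Submodule k V} [FiniteDimensional k V] (h1 : finrank k W = 1) {w : V} (hw0 : w ≠ 0)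
    (hw : w ∈ W) {x : V} (hx : x ∈ W) : ∃ μ : k, x = μ • w := by
  obtain ⟨v, hv0, hv⟩ := finrank_eq_one_iff'.1 h1
  obtain ⟨a, ha⟩ := hv ⟨w, hw⟩
  obtain ⟨b, hb⟩ := hv ⟨x, hx⟩
  have ha' : a • (v : V) = w := congrArg Subtype.val ha
  have hb' : b • (v : V) = x := congrArg Subtype.val hb
  have ha0 : a ≠ 0 := by
    rintro rfl
    rw [zero_smul] at ha'
    exact hw0 ha'.symm
  refine ⟨b * a⁻¹, ?_⟩
  rw [← ha', smul_smul, mul_assoc, inv_mul_cancel₀ ha0, mul_one, hb']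

/-- two operators preserving a line commute on it -/
theorem br_fix {w : V} {g h : H} {a b : k} (hw0 : w ≠ 0) (hg : ρ g w = a • w) (hh : ρ h w = b • w) :
    ρ (br g h) w = w := by
  have inv : ∀ (g : H) (a : k), ρ g w = a • w → ρ g⁻¹ w = a⁻¹ • w := by
    intro g a hg
    have h1 : ρ g⁻¹ (ρ g w) = w := by rw [← End.mul_apply, ← map_mul, inv_mul_cancel, map_one, End.one_apply]
    have ha : a ≠ 0 := by
      rintro rfl
      rw [hg, zero_smul, map_zero] at h1
      exact hw0 h1.symm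
    rw [hg, map_smul] at h1
    rw [← h1, smul_smul, inv_mul_cancel₀ ha, one_smul, h1]
  have ha : a ≠ 0 := by
    rintro rfl
    have h1 : ρ g⁻¹ (ρ g w) = w := by rw [← End.mul_apply, ← map_mul, inv_mul_cancel, map_one, End.one_apply]
    rw [hg, zero_smul, map_zero] at h1
    exact hw0 h1.symm
  have hb : b ≠ 0 := by
    rintro rfl
    have h1 : ρ h⁻¹ (ρ h w) = w := by rw [← End.mul_apply, ← map_mul, inv_mul_cancel, map_one, End.one_apply]
    rw [hh, zero_smul, map_zero] at h1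
    exact hw0 h1.symm
  unfold br
  rw [map_mul, map_mul, map_mul, End.mul_apply, End.mul_apply, End.mul_apply, inv h b hh]
  simp only [map_smul, inv g a hg, hh, hg, smul_smul]
  have : b⁻¹ * a⁻¹ * b * a = 1 := by field_simp
  rw [this, one_smul]

/-! ### The two cases -/

theorem br_eq (x y : H) : x * y = br x y * (y * x) := by unfold br; group

theorem hw_facts : (∀ i j : Fin 3, i ≠ 0 → j ≠ 0 → hw ![i, j, 1, 1] = 4) ∧
    (∀ i j : Fin 3, i = 0 ∨ j = 0 → hw ![i, j, 1, 1] = 2 ∨ hw ![i, j, 1, 1] = 3) ∧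
    (∀ i j : Fin 3, ¬ (i = 0 ∧ j = 0) → hw ![i, j, 1, 1] = 3 ∨ hw ![i, j, 1, 1] = 4) ∧
    (∀ i j : Fin 3, hw ![i, j, 0, 1] = 2 → (i = 0 ∧ j ≠ 0) ∨ (i ≠ 0 ∧ j = 0)) ∧
    (∀ i j : Fin 3, hw ![i, j, 0, 1] = 1 ∨ hw ![i, j, 0, 1] = 2 ∨ hw ![i, j, 0, 1] = 3) ∧
    hw ![0, 0, 1, 1] = 2 ∧ hw ![1, 0, 0, 1] = 2 ∧ hw ![1, 1, 1, 1] = 4 := by decide +kernel

theorem q1_comm : q1 * (t 0 * q1 * (t 0)⁻¹) = (t 0 * q1 * (t 0)⁻¹) * q1 := kit1.comm

include C hc hc3 hcφ hω1 hω in
/-- weights of Hamming weight 4 -/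
theorem case_four [IsAlgClosed k] [Finite H] [FiniteDimensional k V] (hp5 : 5 ≤ p) (h4 : nn ρ c ω 4 = 1)
    (h2 : nn ρ c ω 2 = 0) (h3 : nn ρ c ω 3 = 0) : False := by
  have k3 : (3 : k) ≠ 0 := three_ne (p := p) hp5
  have k2 : (2 : k) ≠ 0 := two_ne (p := p) hp5
  have : Fact (Nat.Prime 3) := hfact3
  obtain ⟨f1, f2, f3, -, -, -, -, f4⟩ := hw_facts
  have hbot : ∀ i j : Fin 3, i = 0 ∨ j = 0 → Wt ρ c ω ![i, j, 1, 1] = ⊥ := by
    intro i j hij
    apply Wt_eq_bot C ρ hc hc3 hcφ hω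
    rcases f2 i j hij with h | h
    · rw [h, h2]
    · rw [h, h3]
  have hd1 : finrank k (Wt ρ c ω ![1, 1, 1, 1]) = 1 := by
    rw [finrank_Wt C ρ hc hc3 hcφ hω, f4, h4]
  obtain ⟨w, hwm, hw0⟩ : ∃ w ∈ Wt ρ c ω ![1, 1, 1, 1], w ≠ 0 := by
    apply Submodule.exists_mem_ne_zero_of_ne_bot
    intro h
    rw [h, finrank_bot] at hd1
    exact zero_ne_one hd1
  have hwc : ∀ i, ρ (c i) w = ω • w := by
    intro i
    have h5 := (mem_Wt ρ).1 hwm i
    have h6 : (![1, 1, 1, 1] : Fin 4 → Fin 3) i = 1 := by fin_cases i <;> rfl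
    rw [h6] at h5
    simpa using h5
  -- elements of `A_12` permuting the four 3-cycles act on `w` by scalars
  have hscal : ∀ (τ : Fin 4 → Fin 4) (a : A12), (∀ j, a * t (τ j) * a⁻¹ = t j) → ∃ h, φ h = a ∧ ∃ μ : k,
      ρ h w = μ • w := by
    intro τ a ha
    obtain ⟨h, hh, hh'⟩ := exists_lift φ C.k3 (c := fun j => c (τ j)) (d := c) (fun i j => hc _ _)
      (fun i => hc3 _) hc hc3 (a := a) (C.surj a) (fun i => by rw [hcφ, hcφ, ha])
    refine ⟨h, hh, ?_⟩
    obtain ⟨μ, hμ⟩ := exists_scalar (W := Wt ρ c ω ![1, 1, 1, 1]) hd1 hw0 hwm (x := ρ h w) (by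
      rw [mem_Wt]
      intro i
      have h6 : (![1, 1, 1, 1] : Fin 4 → Fin 3) i = 1 := by fin_cases i <;> rfl
      rw [h6, ← End.mul_apply, ← map_mul, ← hh' i, inv_mul_cancel_right, map_mul, End.mul_apply, hwc, map_smul]
      simp)
    exact ⟨μ, hμ⟩
  obtain ⟨A, hA, μ, hAw⟩ := hscal aτ _ α_t
  obtain ⟨B, hB, ν, hBw⟩ := hscal bτ _ β_t
  have hABw : ρ (br A B) w = w := br_fix ρ hw0 hAw hBw
  -- the kill lemma
  have hfix1 : ∀ y ∈ YY ρ c ω 1, ρ (c 0) y = y → y = 0 := by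
    intro y hy hy0
    obtain ⟨z, hz1, hz2, hz3⟩ := YY_decomp ρ hc hc3 hω1 hω k3 hy
    rw [hz1]
    refine Finset.sum_eq_zero fun i _ => Finset.sum_eq_zero fun j _ => ?_
    by_cases hi : i = 0
    · have := hz2 i j
      rw [hbot i j (Or.inl hi)] at this
      exact (Submodule.mem_bot k).1 this
    · have h5 := hz3 (ρ (c 0)) 1 rfl (by rw [← map_mul, hc, map_mul]) (by rw [one_smul, hy0]) i j
      have h6 := (mem_Wt ρ).1 (hz2 i j) 0
      rw [one_smul] at h5
      rw [h5] at h6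
      exact smul_eq_self hω1 hω hi h6.symm
  have hcore := core C ρ hc hc3 hcφ k2 1 kit1 (x := c 0) (fun i _ => hc 0 i) (hc3 0) (hcφ 0) hfix1 (by
    intro s hs s' hs' hss hsq hsq' y hy
    have hz : br s s' ∈ Z := br_mem_Z C hp5 hss (by rw [hsq, hsq', q1_comm])
    set z := br s s' with hzdef
    -- comparison modulo `P`
    have hPn := C.nor
    let ψ : H ⧸ P →* A12 := QuotientGroup.lift P φ C.kP
    have hψ : ∀ x : H, ψ (x : H ⧸ P) = φ x := fun x => rfl
    have hψker : ∀ g : H ⧸ P, ψ g = 1 → ∃ z ∈ Z, g = ((z : H) : H ⧸ P) := by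
      intro g hg
      obtain ⟨x, rfl⟩ := QuotientGroup.mk_surjective g
      obtain ⟨z, hz, hu⟩ := C.dec x hg
      refine ⟨z, hz, ?_⟩
      rw [eq_comm, QuotientGroup.eq]
      have : z⁻¹ * x = x * z⁻¹ := by
        rw [inv_mul_eq_iff_eq_mul, ← mul_assoc, C.cZ z hz, mul_inv_cancel_right]
      rw [this]; exact hu
    have hcen : ∀ z : H ⧸ P, ψ z = 1 → ∀ g, z * g = g * z := by
      intro g hg x
      obtain ⟨z, hz, rfl⟩ := hψker g hg
      obtain ⟨x, rfl⟩ := QuotientGroup.mk_surjective x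
      rw [← QuotientGroup.mk_mul, ← QuotientGroup.mk_mul, C.cZ z hz]
    have hexp : ∀ z : H ⧸ P, ψ z = 1 → z * z = 1 := by
      intro g hg
      obtain ⟨z, hz, rfl⟩ := hψker g hg
      rw [← QuotientGroup.mk_mul, C.eZ z hz, QuotientGroup.mk_one]
    have hsurj : Function.Surjective ψ := by
      intro a
      obtain ⟨x, rfl⟩ := C.surj a
      exact ⟨x, rfl⟩
    have hmain := CentralComm.main ψ hcen hsurj hexp q1_comm aα aβ aγ B1 B2 B3 B4
      (fun i j hij => ⟨_, B5 i, B6 i, B7 i j hij⟩) (x := (s : H ⧸ P)) (y := (s' : H ⧸ P)) (X := (A : H ⧸ P))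
      (Y := (B : H ⧸ P)) (by rw [hψ, hsq]) (by rw [hψ, hsq']) (by rw [hψ, hA]) (by rw [hψ, hB])
    have hu : z⁻¹ * br A B ∈ P := by
      rw [← QuotientGroup.eq]
      exact hmain.symm
    -- `z` acts trivially on `w`
    have hzw : ρ z w = w := by
      obtain ⟨μ, hμ⟩ := exists_scalar (W := Wt ρ c ω ![1, 1, 1, 1]) hd1 hw0 hwm (x := ρ z w) (by
        rw [mem_Wt]
        intro i
        rw [← End.mul_apply, ← map_mul, ← C.cZ z hz, map_mul, End.mul_apply, (mem_Wt ρ).1 hwm i, map_smul])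
      have h5 : ρ (br A B) w = μ • ρ (z⁻¹ * br A B) w := by
        have : br A B = (z⁻¹ * br A B) * z := by
          rw [← C.cZ z hz, mul_inv_cancel_left]
        nth_rewrite 1 [this]
        rw [map_mul ρ (z⁻¹ * br A B) z, End.mul_apply, hμ, map_smul]
      rw [hABw] at h5
      have hμ0 : μ ≠ 0 := by
        rintro rfl
        rw [zero_smul] at h5
        exact hw0 h5
      have h6 : ρ (z⁻¹ * br A B) w = μ⁻¹ • w := by
        have := congrArg (fun v => μ⁻¹ • v) h5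
        simp only [smul_smul, inv_mul_cancel₀ hμ0, one_smul] at this
        exact this.symm
      obtain ⟨m, hmo, hm'⟩ := C.odd _ hu
      have h7 := Lin.pow_eq_one_of_eigen h6 hw0 (n := m) (by rw [← map_pow, hm', map_one])
      have h9 := Lin.pow_eq_one_of_eigen hμ hw0 (n := 2) (by rw [← map_pow, sq, C.eZ z hz, map_one])
      have h8 : μ⁻¹ = 1 := by
        have e1 : orderOf μ⁻¹ ∣ m := orderOf_dvd_of_pow_eq_one h7
        have e2 : orderOf μ⁻¹ ∣ 2 := orderOf_dvd_of_pow_eq_one (by rw [inv_pow, h9, inv_one])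
        have e3 := Nat.dvd_gcd e1 e2
        rw [Nat.coprime_two_right.2 hmo] at e3
        exact orderOf_eq_one_iff.1 (Nat.dvd_one.1 e3)
      rw [hμ, inv_eq_one.1 h8, one_smul]
    have hzy : ∀ y ∈ YY ρ c ω 1, ρ z y = y := by
      intro y hy
      obtain ⟨v, hz1, hz2, -⟩ := YY_decomp ρ hc hc3 hω1 hω k3 hy
      rw [hz1, map_sum]
      refine Finset.sum_congr rfl fun i _ => ?_
      rw [map_sum]
      refine Finset.sum_congr rfl fun j _ => ?_
      by_cases hij : i = 0 ∨ j = 0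
      · have := hz2 i j
        rw [hbot i j hij, Submodule.mem_bot] at this
        rw [this, map_zero]
      · push Not at hij
        exact le_of_fixed C ρ hc hc3 hcφ hω hz hd1 hw0 hwm hzw (by rw [f4, f1 i j hij.1 hij.2]) (hz2 i j)
    rw [br_eq s s', map_mul, End.mul_apply]
    exact hzy _ (YY_inv ρ ((LL c).mul_mem hs' hs) hy))
  have h5 := hcore w ((mem_YY ρ).2 ⟨by simpa using hwc 2, hwc 3⟩)
  have h6 : w = 0 := hfix1 w ((mem_YY ρ).2 ⟨by simpa using hwc 2, hwc 3⟩) h5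
  exact hw0 h6

include C hc hc3 hcφ hω1 hω in
/-- weights of Hamming weight 2 -/
theorem case_two [IsAlgClosed k] [Finite H] [FiniteDimensional k V] (hp5 : 5 ≤ p) (h2 : nn ρ c ω 2 = 1)
    (h1 : nn ρ c ω 1 = 0) (h3 : nn ρ c ω 3 = 0) (h4 : nn ρ c ω 4 = 0) : False := by
  have k3 : (3 : k) ≠ 0 := three_ne (p := p) hp5
  have k2 : (2 : k) ≠ 0 := two_ne (p := p) hp5
  obtain ⟨-, -, f3, f4, f5, f6, f7, -⟩ := hw_facts
  have hbot1 : ∀ i j : Fin 3, ¬ (i = 0 ∧ j = 0) → Wt ρ c ω ![i, j, 1, 1] = ⊥ := by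
    intro i j hij
    apply Wt_eq_bot C ρ hc hc3 hcφ hω
    rcases f3 i j hij with h | h
    · rw [h, h3]
    · rw [h, h4]
  have hbot0 : ∀ i j : Fin 3, hw ![i, j, 0, 1] ≠ 2 → Wt ρ c ω ![i, j, 0, 1] = ⊥ := by
    intro i j hij
    apply Wt_eq_bot C ρ hc hc3 hcφ hω
    rcases f5 i j with h | h | h
    · rw [h, h1]
    · exact absurd h hij
    · rw [h, h3]
  have hd1 : finrank k (Wt ρ c ω ![0, 0, 1, 1]) = 1 := by
    rw [finrank_Wt C ρ hc hc3 hcφ hω, f6, h2]
  have hd2 : finrank k (Wt ρ c ω ![1, 0, 0, 1]) = 1 := by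
    rw [finrank_Wt C ρ hc hc3 hcφ hω, f7, h2]
  have hne : ∀ {U : Submodule k V}, finrank k U = 1 → ∃ w ∈ U, w ≠ 0 := by
    intro U hU
    apply Submodule.exists_mem_ne_zero_of_ne_bot
    intro h
    rw [h, finrank_bot] at hU
    exact zero_ne_one hU
  obtain ⟨w, hwm, hw0⟩ := hne hd1
  obtain ⟨w', hwm', hw0'⟩ := hne hd2
  have hwY : w ∈ YY ρ c ω 1 := by
    rw [mem_YY]
    have e2 := (mem_Wt ρ).1 hwm 2
    have e3 := (mem_Wt ρ).1 hwm 3
    exact ⟨e2, by simpa using e3⟩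
  -- `YY 1` is a line
  have hY1 : ∀ y ∈ YY ρ c ω 1, y ∈ Wt ρ c ω ![0, 0, 1, 1] := by
    intro y hy
    obtain ⟨z, hz1, hz2, -⟩ := YY_decomp ρ hc hc3 hω1 hω k3 hy
    rw [hz1]
    refine Submodule.sum_mem _ fun i _ => Submodule.sum_mem _ fun j _ => ?_
    by_cases hij : i = 0 ∧ j = 0
    · have := hz2 i j
      rwa [hij.1, hij.2] at this ⊢
    · have := hz2 i j
      rw [hbot1 i j hij, Submodule.mem_bot] at this
      rw [this]
      exact zero_mem _
  have hx3 : (c 0 * c 1) ^ 3 = 1 := by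
    rw [(show Commute (c 0) (c 1) from hc 0 1).mul_pow, hc3, hc3, mul_one]
  have hfix : ∀ y ∈ YY ρ c ω 0, ρ (c 0 * c 1) y = y → y = 0 := by
    intro y hy hy0
    obtain ⟨z, hz1, hz2, hz3⟩ := YY_decomp ρ hc hc3 hω1 hω k3 hy
    rw [hz1]
    refine Finset.sum_eq_zero fun i _ => Finset.sum_eq_zero fun j _ => ?_
    by_cases hij : hw ![i, j, 0, 1] = 2
    · have e0 : ρ (c 0) (z i j) = ω ^ (i : ℕ) • z i j := (mem_Wt ρ).1 (hz2 i j) 0
      have e1 : ρ (c 1) (z i j) = ω ^ (j : ℕ) • z i j := (mem_Wt ρ).1 (hz2 i j) 1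
      have h5 := hz3 (ρ (c 0 * c 1)) 1 (by
        rw [← map_mul, ← map_mul, mul_assoc, hc 1 0]) (by
        rw [← map_mul, ← map_mul, ← mul_assoc, hc 1 0]) (by rw [one_smul, hy0]) i j
      rw [one_smul, map_mul, End.mul_apply, e1, map_smul, e0] at h5
      rcases f4 i j hij with ⟨hi, hj⟩ | ⟨hi, hj⟩
      · rw [hi, Fin.val_zero, pow_zero, one_smul] at h5
        rw [hi]
        exact smul_eq_self hω1 hω hj h5
      · rw [hj, Fin.val_zero, pow_zero, one_smul] at h5
        rw [hj]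
        exact smul_eq_self hω1 hω hi h5
    · have := hz2 i j
      rw [hbot0 i j hij, Submodule.mem_bot] at this
      exact this
  have hcore := core C ρ hc hc3 hcφ k2 0 kit2 (x := c 0 * c 1)
    (fun i _ => by rw [mul_assoc, hc 1 i, ← mul_assoc, hc 0 i, mul_assoc]) hx3
    (by rw [map_mul, hcφ, hcφ]) hfix (by
    intro s hs s' hs' hss hsq hsq' y hy
    have hz : br s s' ∈ Z := br_mem_Z C hp5 hss (by rw [hsq, hsq', kit2.comm])
    obtain ⟨μ, hμ⟩ := exists_scalar hd1 hw0 hwm (hY1 _ (YY_inv ρ hs hwY))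
    obtain ⟨ν, hν⟩ := exists_scalar hd1 hw0 hwm (hY1 _ (YY_inv ρ hs' hwY))
    have hzw : ρ (br s s') w = w := br_fix ρ hw0 hμ hν
    have hzy : ∀ y ∈ YY ρ c ω 0, ρ (br s s') y = y := by
      intro y hy
      obtain ⟨v, hz1, hz2, -⟩ := YY_decomp ρ hc hc3 hω1 hω k3 hy
      rw [hz1, map_sum]
      refine Finset.sum_congr rfl fun i _ => ?_
      rw [map_sum]
      refine Finset.sum_congr rfl fun j _ => ?_
      by_cases hij : hw ![i, j, 0, 1] = 2
      · exact le_of_fixed C ρ hc hc3 hcφ hω hz hd1 hw0 hwm hzw (by rw [f6, hij]) (hz2 i j)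
      · have := hz2 i j
        rw [hbot0 i j hij, Submodule.mem_bot] at this
        rw [this, map_zero]
    rw [br_eq s s', map_mul, End.mul_apply]
    exact hzy _ (YY_inv ρ ((LL c).mul_mem hs' hs) hy))
  have hwY' : w' ∈ YY ρ c ω 0 := by
    rw [mem_YY]
    have e2 := (mem_Wt ρ).1 hwm' 2
    have e3 := (mem_Wt ρ).1 hwm' 3
    exact ⟨e2, by simpa using e3⟩
  have h5 := hcore w' hwY'
  have h6 : ρ (c 0) w' = ω ^ ((1 : Fin 3) : ℕ) • w' := (mem_Wt ρ).1 hwm' 0
  rw [h5] at h6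
  exact hw0' (smul_eq_self hω1 hω (by decide) h6.symm)

include C hc hc3 hcφ hω1 hω in
/-- **Main theorem.** -/
theorem main [IsAlgClosed k] [Finite H] [FiniteDimensional k V] (hp5 : 5 ≤ p) (hd : finrank k V ≤ 27)
    {i j : Fin 4} (hij : i ≠ j) (x : V) : ρ (c i) (ρ (c j) x - x) = ρ (c j) x - x := by
  have k3 : (3 : k) ≠ 0 := three_ne (p := p) hp5
  have hcount := count C ρ hc hc3 hcφ hω1 hω k3
  have h3 : nn ρ c ω 3 = 0 := by omega
  have h4 : nn ρ c ω 4 = 0 := by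
    by_contra h
    exact case_four C ρ hc hc3 hcφ hω1 hω hp5 (by omega) (by omega) h3
  have h2 : nn ρ c ω 2 = 0 := by
    by_contra h
    exact case_two C ρ hc hc3 hcφ hω1 hω hp5 (by omega) (by omega) h3 h4
  have htop := iSup_W3 (f := fun i => ρ (c i)) (fun i j => by
    show ρ (c i) * ρ (c j) = ρ (c j) * ρ (c i)
    rw [← map_mul, hc, map_mul]) (fun i => by rw [← map_pow, hc3, map_one]) k3 hω1 hω
  have hx : x ∈ ⨆ v, W3 (fun i => ρ (c i)) ω v := htop ▸ Submodule.mem_top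
  induction hx using Submodule.iSup_induction' with
  | mem v x hx =>
    have hx' : x ∈ Wt ρ c ω v := hx
    have key : ∀ (v : Fin 4 → Fin 3) (i j : Fin 4), i ≠ j → (hw v = 2 ∨ hw v = 3 ∨ hw v = 4) ∨ v i = 0 ∨ v j = 0 := by
      decide +kernel
    rcases key v i j hij with h | h | h
    · have hbot : Wt ρ c ω v = ⊥ := by
        apply Wt_eq_bot C ρ hc hc3 hcφ hω
        rcases h with h | h | h <;> rw [h]
        · exact h2
        · exact h3
        · exact h4
      rw [hbot, Submodule.mem_bot] at hx'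
      rw [hx', map_zero, sub_zero, map_zero]
    · have e1 := (mem_Wt ρ).1 hx' i
      have e2 := (mem_Wt ρ).1 hx' j
      rw [h, Fin.val_zero, pow_zero, one_smul] at e1
      rw [e2, map_sub, map_smul, e1]
    · have e2 := (mem_Wt ρ).1 hx' j
      rw [h, Fin.val_zero, pow_zero, one_smul] at e2
      rw [e2, sub_self, map_zero]
  | zero => rw [map_zero, sub_zero, map_zero]
  | add x y _ _ hx hy =>
    have : ρ (c j) (x + y) - (x + y) = (ρ (c j) x - x) + (ρ (c j) y - y) := by rw [map_add]; abel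
    rw [this, map_add, hx, hy]

end Cfsg.Agent.H191.AltT
end

-- part: H191/PermLemma
section
/-!
# Subgroups of `A_12` of index at most 27 and 3-cycles
-/

set_option autoImplicit false

namespace Cfsg.Agent.H191.PermLemma

open Module Cfsg.Agent.H191.Lin Cfsg.Agent.H191.ConjFam Cfsg.Agent.H191.AltTab Cfsg.Agent.H191.AltT

/-- lifting the four 3-cycles to commuting elements of order three -/
theorem exists_c {H : Type*} [Group H] [Finite H] {φ : H →* A12} (hφ : Function.Surjective φ)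
    (hk : ¬ 3 ∣ Nat.card φ.ker) :
    ∃ c : Fin 4 → H, (∀ i j, c i * c j = c j * c i) ∧ (∀ i, c i ^ 3 = 1) ∧ ∀ i, φ (c i) = t i := by
  have : Fact (Nat.Prime 3) := hfact3
  have hQ : IsPGroup 3 (Subgroup.closure (Set.range t)) := isPGroup_closure t_comm t_cube
  obtain ⟨S, hS, hSm, -⟩ := Cfsg.Agent.H190.frattini_section φ hφ 3 (Subgroup.closure (Set.range t)) hQ
  have h1 : ∀ i, ∃ s ∈ S, φ s = t i := by
    intro i
    have : t i ∈ S.map φ := by rw [hSm]; exact Subgroup.subset_closure ⟨i, rfl⟩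
    exact this
  choose c hcS hcφ using h1
  refine ⟨c, fun i j => ?_, fun i => ?_, hcφ⟩
  · apply inj_on φ hk hS (S.mul_mem (hcS _) (hcS _)) (S.mul_mem (hcS _) (hcS _))
    rw [map_mul, map_mul, hcφ, hcφ, t_comm]
  · apply inj_on φ hk hS (S.pow_mem (hcS _) _) S.one_mem
    rw [map_pow, hcφ, t_cube, map_one]

/-- the trivial cover -/
theorem cov_id : Cov (MonoidHom.id A12) ⊥ ⊥ where
  surj := Function.surjective_id
  nor := inferInstance
  odd := by rintro x hx; exact ⟨1, odd_one, by rw [Subgroup.mem_bot.1 hx, one_pow]⟩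
  kP := by rintro x hx; rw [Subgroup.mem_bot.1 hx]; rfl
  cZ := by rintro z hz g; rw [Subgroup.mem_bot.1 hz, one_mul, mul_one]
  eZ := by rintro z hz; rw [Subgroup.mem_bot.1 hz, one_mul]
  kZ := by rintro x hx; rw [Subgroup.mem_bot.1 hx]; rfl
  dec := by
    intro x hx
    refine ⟨1, Subgroup.one_mem _, ?_⟩
    have : x = 1 := hx
    rw [this]; simp
  k3 := by
    have : (MonoidHom.id A12).ker = ⊥ := by
      ext x; simp [Subgroup.mem_bot]
    rw [this, Subgroup.card_bot]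
    norm_num

/-- **If the subgroup `B` of `A_12` has index at most 27 then it contains all but one of four disjoint 3-cycles.** -/
theorem perm_lemma (B : Subgroup A12) (hB : B.index ≤ 27) {i j : Fin 4} (hij : i ≠ j) (hj : t j ∉ B) : t i ∈ B := by
  classical
  have hp : Fact (Nat.Prime 5) := ⟨by norm_num⟩
  let k := AlgebraicClosure (ZMod 5)
  have : CharP k 5 := inferInstance
  have h3 : (3 : k) ≠ 0 := three_ne (p := 5) le_rfl
  have h2 : (2 : k) ≠ 0 := two_ne (p := 5) le_rfl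
  obtain ⟨ω, hω⟩ : ∃ ω : k, ω ^ 2 + ω + 1 = 0 := by
    have h := IsAlgClosed.exists_root (Polynomial.X ^ 2 + Polynomial.X + 1 : Polynomial k) (by
      have : (Polynomial.X ^ 2 + Polynomial.X + 1 : Polynomial k).degree = 2 := by compute_degree!
      rw [this]; norm_num)
    obtain ⟨ω, h⟩ := h
    refine ⟨ω, ?_⟩
    simpa [Polynomial.IsRoot] using h
  have hω1 : ω ≠ 1 := by
    rintro rfl
    apply h3
    linear_combination hω
  have hω3 : ω ^ 3 = 1 := by linear_combination (ω - 1) * hω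
  let ρ : Representation k A12 ((A12 ⧸ B) → k) :=
    { toFun := fun g => LinearMap.funLeft k k (fun y => g⁻¹ • y)
      map_one' := by
        refine LinearMap.ext fun f => funext fun y => ?_
        show f ((1 : A12)⁻¹ • y) = f y
        rw [inv_one, one_smul]
      map_mul' := fun g h => by
        refine LinearMap.ext fun f => funext fun y => ?_
        show f ((g * h)⁻¹ • y) = f (h⁻¹ • g⁻¹ • y)
        rw [mul_inv_rev, mul_smul] }
  have hfin : Fintype (A12 ⧸ B) := Fintype.ofFinite _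
  have hd : finrank k ((A12 ⧸ B) → k) ≤ 27 := by
    rw [Module.finrank_fintype_fun_eq_card, ← Nat.card_eq_fintype_card]
    exact hB
  let y : A12 ⧸ B := ((1 : A12) : A12 ⧸ B)
  have hy : ∀ x : A12, x⁻¹ • y = y ↔ x ∈ B := by
    intro x
    show ((x⁻¹ * 1 : A12) : A12 ⧸ B) = ((1 : A12) : A12 ⧸ B) ↔ _
    rw [QuotientGroup.eq]
    simp
  have h5 := AltT.main cov_id ρ t_comm t_cube (fun _ => rfl) hω1 hω3 le_rfl hd hij (Pi.single y 1)
  have h6 := congrFun h5 y
  have h7 : (Pi.single y 1 : (A12 ⧸ B) → k) ((t j)⁻¹ • (t i)⁻¹ • y) - (Pi.single y 1 : (A12 ⧸ B) → k) ((t i)⁻¹ • y) =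
    (Pi.single y 1 : (A12 ⧸ B) → k) ((t j)⁻¹ • y) - (Pi.single y 1 : (A12 ⧸ B) → k) y := h6
  have e1 : (t j)⁻¹ • y ≠ y := fun h => hj ((hy _).1 h)
  rw [Pi.single_eq_of_ne e1, Pi.single_eq_same, zero_sub] at h7
  by_contra hi
  have e2 : (t i)⁻¹ • y ≠ y := fun h => hi ((hy _).1 h)
  rw [Pi.single_eq_of_ne e2, sub_zero, Pi.single_apply] at h7
  split at h7
  · apply h2
    linear_combination h7
  · have : (1 : k) = 0 := by linear_combination h7
    exact one_ne_zero this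

end Cfsg.Agent.H191.PermLemma
end

-- part: H191/MinCover
section
/-!
# Minimal covers of the alternating group of degree 12
-/

set_option autoImplicit false

namespace Cfsg.Agent.H191.MinCover

open Cfsg.Agent.H191.AltTab

/-- `φ` is onto, and no proper subgroup maps onto the target. -/
structure MinCov {H A : Type*} [Group H] [Group A] (φ : H →* A) : Prop where
  surj : Function.Surjective φ
  min : ∀ S : Subgroup H, S.map φ = ⊤ → S = ⊤

theorem exists_minCov {G A : Type*} [Group G] [Finite G] [Group A] (φ : G →* A) (hφ : Function.Surjective φ) :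
    ∃ S : Subgroup G, MinCov (φ.comp S.subtype) := by
  have hne : ({S : Subgroup G | S.map φ = ⊤} : Set (Subgroup G)).Nonempty :=
    ⟨⊤, by
      show Subgroup.map φ ⊤ = ⊤
      rw [← MonoidHom.range_eq_map]; exact MonoidHom.range_eq_top.2 hφ⟩
  obtain ⟨S, hS, hmin⟩ := (wellFounded_lt (α := Subgroup G)).has_min _ hne
  refine ⟨S, ?_, ?_⟩
  · intro a
    have : a ∈ S.map φ := by rw [hS]; trivial
    obtain ⟨s, hs, rfl⟩ := this
    exact ⟨⟨s, hs⟩, rfl⟩
  · intro T hT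
    have h1 : (T.map S.subtype).map φ = ⊤ := by rw [Subgroup.map_map]; exact hT
    have h2 : T.map S.subtype ≤ S := by
      rintro _ ⟨x, _, rfl⟩; exact x.2
    have h3 : T.map S.subtype = S := by
      by_contra h
      exact hmin _ h1 (lt_of_le_of_ne h2 h)
    rw [eq_top_iff]
    rintro ⟨x, hx⟩ -
    have : x ∈ T.map S.subtype := by rw [h3]; exact hx
    obtain ⟨y, hy, hyx⟩ := this
    have : y = ⟨x, hx⟩ := Subtype.ext hyx
    rwa [← this]

section

variable {H A : Type*} [Group H] [Group A] {φ : H →* A} (M : MinCov φ)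

include M

theorem eq_top_of_sup {S : Subgroup H} (h : φ.ker ⊔ S = ⊤) : S = ⊤ := by
  apply M.min
  rw [eq_top_iff]
  rintro a -
  obtain ⟨x, rfl⟩ := M.surj a
  have hx : x ∈ φ.ker ⊔ S := by rw [h]; trivial
  obtain ⟨k, hk, s, hs, rfl⟩ := Subgroup.mem_sup_of_normal_left.1 hx
  refine ⟨s, hs, ?_⟩
  rw [map_mul, (MonoidHom.mem_ker).1 hk, one_mul]

theorem ker_le_frattini : φ.ker ≤ frattini H := by
  unfold frattini Order.radical
  refine le_iInf₂ fun S hS => ?_
  by_contra h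
  have h1 : φ.ker ⊔ S = ⊤ := by
    apply hS.2
    refine lt_of_le_of_ne le_sup_right ?_
    intro h2
    exact h (h2 ▸ le_sup_left)
  exact hS.1 (eq_top_of_sup M h1)

theorem ker_nilpotent [Finite H] : Group.IsNilpotent φ.ker := by
  have h1 := frattini_nilpotent (G := H)
  have h2 : Group.IsNilpotent (φ.ker.subgroupOf (frattini H)) := inferInstance
  exact Group.nilpotent_of_mulEquiv (Subgroup.subgroupOfEquivOfLe (ker_le_frattini M))

theorem eq_top_or [IsSimpleGroup A] (N : Subgroup H) [hN : N.Normal] : N = ⊤ ∨ N ≤ φ.ker := by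
  have h1 : (N.map φ).Normal := hN.map φ M.surj
  rcases h1.eq_bot_or_eq_top with h | h
  · right
    rw [Subgroup.map_eq_bot_iff] at h
    exact h
  · left
    exact M.min _ h

theorem perfect (hA : commutator A = ⊤) : commutator H = ⊤ := by
  apply M.min
  rw [commutator_def, Subgroup.map_commutator, ← MonoidHom.range_eq_map, MonoidHom.range_eq_top.2 M.surj,
    ← commutator_def, hA]

end

instance : IsSimpleGroup A12 := alternatingGroup.isSimpleGroup (by simp)

theorem commutator_A12 : commutator A12 = ⊤ :=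
  commutator_alternatingGroup_eq_top (by simp)

theorem card_A12 : Nat.card A12 = 239500800 := by
  have : Nontrivial (Fin 12) := inferInstance
  rw [nat_card_alternatingGroup]
  simp
  rfl

end Cfsg.Agent.H191.MinCover
end
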